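import Cfsg.Agent.H76.ThreeOrders.Outer
import Cfsg.Agent.H40.SupSolvable

/-!
The quotient by the solvable radical is simple.
-/

set_option autoImplicit false
set_option linter.style.haveILetI false
set_option linter.unusedSectionVars false

namespace Cfsg.Agent.H76.ThreeOrders

open Subgroup

variable {G : Type*} [Group G] [Finite G]

/-- There is a largest solvable normal subgroup. -/
theorem exists_radical (G : Type*) [Group G] [Finite G] :
    ∃ R : Subgroup G, R.Normal ∧ Group.IsSolvable R ∧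
      ∀ N : Subgroup G, N.Normal → Group.IsSolvable N → N ≤ R := by
  obtain ⟨R, ⟨hRn, hRs⟩, hmax⟩ := Set.Finite.exists_maximalFor id
    {N : Subgroup G | N.Normal ∧ Group.IsSolvable N} (Set.toFinite _)
    ⟨⊥, inferInstance, Group.isSolvable_of_comm fun a b => Subsingleton.elim _ _⟩
  refine ⟨R, hRn, hRs, fun N hN hNs => ?_⟩
  haveI := hRn
  haveI := hN
  have h : R ⊔ N ∈ {N : Subgroup G | N.Normal ∧ Group.IsSolvable N} :=
    ⟨inferInstance, H40.isSolvable_sup (by rw [normalizer_eq_top_iff.2 hRn]; exact le_top) hRs hNs⟩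
  exact le_sup_right.trans (hmax h le_sup_left)

theorem radical_quotient {R : Subgroup G} [R.Normal] (hRs : Group.IsSolvable R)
    (hmax : ∀ N : Subgroup G, N.Normal → Group.IsSolvable N → N ≤ R) {N : Subgroup (G ⧸ R)}
    (hN : N.Normal) (hNs : Group.IsSolvable N) : N = ⊥ := by
  haveI := hN
  haveI := hRs
  haveI := hNs
  set M := N.comap (QuotientGroup.mk' R) with hM
  let f : M →* N := ((QuotientGroup.mk' R).comp M.subtype).codRestrict N fun x => x.2
  have hker : f.ker ≤ (Subgroup.inclusion (show R ≤ M from fun x hx => by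
      rw [hM, mem_comap, QuotientGroup.mk'_apply, (QuotientGroup.eq_one_iff x).2 hx]
      exact one_mem N)).range := by
    intro x hx
    have h1 : QuotientGroup.mk' R (x : G) = 1 := congrArg Subtype.val (MonoidHom.mem_ker.1 hx)
    exact ⟨⟨x, (QuotientGroup.eq_one_iff (x : G)).1 h1⟩, rfl⟩
  have hMs : Group.IsSolvable M := Group.isSolvable_of_ker_le_range _ f hker
  have hle := hmax M inferInstance hMs
  rw [eq_bot_iff]
  intro x hx
  obtain ⟨g, rfl⟩ := QuotientGroup.mk'_surjective R x
  exact mem_bot.2 ((QuotientGroup.eq_one_iff g).2 (hle hx))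

theorem not_solvable_quotient {R : Subgroup G} [R.Normal] (hRs : Group.IsSolvable R)
    (hns : ¬ Group.IsSolvable G) : ¬ Group.IsSolvable (G ⧸ R) := fun h => by
  haveI := hRs
  haveI := h
  refine hns (Group.isSolvable_of_ker_le_range R.subtype (QuotientGroup.mk' R) ?_)
  rw [QuotientGroup.ker_mk', range_subtype]

/-- With trivial radical, a minimal normal subgroup is simple. -/
theorem exists_simple_normal (h : Two G) (hns : ¬ Group.IsSolvable G)
    (hrad : ∀ N : Subgroup G, N.Normal → Group.IsSolvable N → N = ⊥) :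
    ∃ N : Subgroup G, N.Normal ∧ IsSimpleGroup N ∧ ¬ Group.IsSolvable N := by
  classical
  haveI : Nontrivial G := by
    by_contra hcon
    rw [not_nontrivial_iff_subsingleton] at hcon
    exact hns (Group.isSolvable_of_comm fun a b => Subsingleton.elim _ _)
  haveI : Nonempty {N : Subgroup G // N.Normal ∧ N ≠ ⊥} := ⟨⟨⊤, inferInstance, top_ne_bot⟩⟩
  obtain ⟨⟨N, hN, hNne⟩, hmin⟩ := Finite.exists_min
    fun N : {N : Subgroup G // N.Normal ∧ N ≠ ⊥} => Nat.card ↥(N.1)
  haveI := hN
  haveI : Nontrivial N := (Subgroup.nontrivial_iff_ne_bot _).2 hNne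
  have hNmin : ∀ M : Subgroup G, M.Normal → M ≠ ⊥ → M ≤ N → M = N := fun M h1 h2 h3 =>
    eq_of_le_of_card_ge h3 (hmin ⟨M, h1, h2⟩)
  have hNns : ¬ Group.IsSolvable N := fun hs => hNne (hrad N hN hs)
  -- `N` has no solvable normal subgroup
  have hsolv : ∀ L : Subgroup N, L.Normal → Group.IsSolvable L → L = ⊥ := by
    intro L hL hLs
    obtain ⟨M, hM, hMs, hMmax⟩ := exists_radical N
    haveI := hM
    haveI := hMs
    have hfix : ∀ g : G, ∀ x ∈ M.map N.subtype, g * x * g⁻¹ ∈ M.map N.subtype := by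
      intro g
      have h1 := hMmax (M.map (MulAut.conjNormal g : MulAut N).toMonoidHom)
        (hM.map _ (MulAut.conjNormal g : MulAut N).surjective)
        (Group.isSolvable_of_surjective
          (f := (M.equivMapOfInjective (MulAut.conjNormal g : MulAut N).toMonoidHom
            (MulAut.conjNormal g : MulAut N).injective).toMonoidHom) (MulEquiv.surjective _))
      rintro _ ⟨y, hy, rfl⟩
      exact ⟨_, h1 (mem_map_of_mem _ hy), MulAut.conjNormal_apply g y⟩
    have hbot := hrad (M.map N.subtype) ⟨fun x hx g => hfix g x hx⟩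
      (Group.isSolvable_of_surjective (f := (M.equivMapOfInjective N.subtype
        N.subtype_injective).toMonoidHom) (MulEquiv.surjective _))
    rw [map_eq_bot_iff_of_injective _ N.subtype_injective] at hbot
    exact le_bot_iff.1 (hbot ▸ hMmax L hL hLs)
  refine ⟨N, hN, ⟨fun L hL => or_iff_not_imp_left.2 fun hLne => ?_⟩, hNns⟩
  haveI : Nonempty {M : Subgroup N // M.Normal ∧ M ≠ ⊥} := ⟨⟨L, hL, hLne⟩⟩
  obtain ⟨⟨L₀, hL₀, hL₀ne⟩, hmin₀⟩ := Finite.exists_min
    fun M : {M : Subgroup N // M.Normal ∧ M ≠ ⊥} => Nat.card ↥(M.1)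
  haveI := hL₀
  set K := L₀.map N.subtype with hK
  have hKfix : ∀ g : G, ∀ x ∈ K, g * x * g⁻¹ ∈ K := by
    intro g
    let R : Subgroup N := L₀.map (MulAut.conjNormal g : MulAut N).toMonoidHom
    haveI hR : R.Normal := hL₀.map _ (MulAut.conjNormal g : MulAut N).surjective
    have hcard : Nat.card R = Nat.card L₀ :=
      (Nat.card_congr (L₀.equivMapOfInjective _
        (MulAut.conjNormal g : MulAut N).injective).toEquiv).symm
    by_cases hle : L₀ ⊓ R = ⊥
    swap
    · have hle' : L₀ ≤ R := by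
        have := eq_of_le_of_card_ge (inf_le_left : L₀ ⊓ R ≤ L₀)
          (hmin₀ ⟨L₀ ⊓ R, inferInstance, hle⟩)
        exact this ▸ inf_le_right
      have heq : L₀ = R := eq_of_le_of_card_ge hle' hcard.le
      rintro _ ⟨y, hy, rfl⟩
      exact ⟨_, heq.ge (mem_map_of_mem _ hy), MulAut.conjNormal_apply g y⟩
    exfalso
    have hRne : R ≠ ⊥ := fun e => hL₀ne (card_eq_one.1 (by rw [← hcard, e, card_bot]))
    obtain ⟨⟨b, hb⟩, hb1⟩ := (R.ne_bot_iff_exists_ne_one).1 hRne
    refine hb1 (Subtype.ext ((h.subgroup N).centralizer_eq_one (K := L₀)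
      (fun hs => hL₀ne (hsolv L₀ hL₀ hs)) (mem_centralizer_iff.2 fun a ha => ?_)))
    exact (commute_of_normal_of_disjoint L₀ R hL₀ hR (disjoint_iff.2 hle) a b ha hb).eq
  have hKne : K ≠ ⊥ := fun e => hL₀ne ((map_eq_bot_iff_of_injective _ N.subtype_injective).1 e)
  have hKeq : K = N := hNmin K ⟨fun x hx g => hKfix g x hx⟩ hKne (map_subtype_le _)
  have h1 : L₀ = ⊤ := map_injective N.subtype_injective (by
    rw [← hK, hKeq, ← MonoidHom.range_eq_map, range_subtype])
  have := hmin₀ ⟨L, hL, hLne⟩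
  simp only [h1, card_top] at this
  exact Subgroup.eq_top_of_le_card L this

/-- With trivial radical the group is simple. -/
theorem isSimple_of_radical (h : Two G) (hns : ¬ Group.IsSolvable G)
    (hrad : ∀ N : Subgroup G, N.Normal → Group.IsSolvable N → N = ⊥) : IsSimpleGroup G := by
  classical
  obtain ⟨S, hS, hsimp, hSns⟩ := exists_simple_normal h hns hrad
  haveI := hS
  haveI := hsimp
  suffices htop : S = ⊤ by
    haveI : Nontrivial G := Function.Injective.nontrivial S.subtype_injective
    exact MulEquiv.isSimpleGroup (Subgroup.topEquiv.symm.trans (MulEquiv.subgroupCongr htop.symm))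
  by_contra hne
  obtain ⟨l, hl, hld⟩ := Nat.exists_prime_and_dvd (n := Nat.card (G ⧸ S))
    (fun e => hne (index_eq_one.1 e))
  obtain ⟨b, hb⟩ := hasOrd_prime (G := G ⧸ S) hl hld
  set A := (zpowers b).comap (QuotientGroup.mk' S) with hA
  have hSA : S ≤ A := fun x hx => by
    rw [hA, mem_comap, QuotientGroup.mk'_apply, (QuotientGroup.eq_one_iff x).2 hx]
    exact one_mem _
  have hidx : (S.subgroupOf A).index = l := by
    let f : A →* zpowers b := ((QuotientGroup.mk' S).comp A.subtype).codRestrict _ fun x => x.2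
    have hf : Function.Surjective f := by
      rintro ⟨x, hx⟩
      obtain ⟨g, rfl⟩ := QuotientGroup.mk'_surjective S x
      exact ⟨⟨g, hx⟩, rfl⟩
    have hker : f.ker = S.subgroupOf A := by
      ext x
      rw [MonoidHom.mem_ker, mem_subgroupOf, ← QuotientGroup.eq_one_iff]
      exact ⟨fun e => congrArg Subtype.val e, fun e => Subtype.ext e⟩
    rw [← hker, index_ker, MonoidHom.range_eq_top.2 hf, card_top, Nat.card_zpowers, hb]
  haveI : IsSimpleGroup (S.subgroupOf A) :=
    MulEquiv.isSimpleGroup (subgroupOfEquivOfLe hSA)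
  refine no_ext (h.subgroup A) ⟨inferInstance, hl, hidx⟩ fun hs => hSns ?_
  exact Group.isSolvable_of_surjective (f := (subgroupOfEquivOfLe hSA).toMonoidHom)
    (MulEquiv.surjective _)

end Cfsg.Agent.H76.ThreeOrders
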