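import Cfsg.Agent.S0144
import Cfsg.Agent.S0205
import Cfsg.Agent.H26.Invol
import Cfsg.Agent.Thompson.BaerSuzuki
import Cfsg.Agent.H76.OneMixed.Basic

/-!
Groups in which no prime divides three element orders: first facts.
-/

set_option autoImplicit false
set_option linter.style.haveILetI false
set_option linter.unusedSectionVars false

namespace Cfsg.Agent.H76.ThreeOrders

open Subgroup

/-- No prime divides three pairwise distinct element orders. -/
def Two (G : Type*) [Group G] : Prop :=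
  ∀ p : ℕ, p.Prime → ∀ a b c : G, orderOf a ≠ orderOf b → orderOf b ≠ orderOf c →
    orderOf a ≠ orderOf c → ¬ (p ∣ orderOf a ∧ p ∣ orderOf b ∧ p ∣ orderOf c)

/-- There is an element of the given order. -/
def HasOrd (G : Type*) [Group G] (n : ℕ) : Prop := ∃ g : G, orderOf g = n

variable {G H : Type*} [Group G] [Group H]

theorem HasOrd.of_dvd [Finite G] {g : G} {n : ℕ} (h : n ∣ orderOf g) : HasOrd G n :=
  ⟨_, orderOf_pow_orderOf_div (orderOf_pos g).ne' h⟩

theorem HasOrd.dvd [Finite G] {n d : ℕ} (h : HasOrd G n) (hd : d ∣ n) : HasOrd G d := by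
  obtain ⟨g, rfl⟩ := h
  exact HasOrd.of_dvd hd

theorem HasOrd.of_injective (f : H →* G) (hf : Function.Injective f) {n : ℕ} (h : HasOrd H n) :
    HasOrd G n := by
  obtain ⟨g, rfl⟩ := h
  exact ⟨f g, orderOf_injective f hf g⟩

theorem HasOrd.of_surjective [Finite G] (f : G →* H) (hf : Function.Surjective f) {n : ℕ}
    (h : HasOrd H n) : HasOrd G n := by
  obtain ⟨g, rfl⟩ := h
  obtain ⟨g, rfl⟩ := hf g
  exact HasOrd.of_dvd (orderOf_map_dvd f g)

theorem HasOrd.of_mulEquiv (e : G ≃* H) {n : ℕ} (h : HasOrd G n) : HasOrd H n :=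
  h.of_injective e.toMonoidHom e.injective

theorem hasOrd_prime [Finite G] {p : ℕ} (hp : p.Prime) (h : p ∣ Nat.card G) : HasOrd G p :=
  haveI := Fact.mk hp
  exists_prime_orderOf_dvd_card' p h

theorem hasOrd_prime_mul [Finite G] {x y : G} {s p : ℕ} (hs : s.Prime) (hp : p.Prime) (hsp : s ≠ p)
    (hx : orderOf x = s) (hy : p ∣ orderOf y) (hc : Commute x y) : HasOrd G (s * p) := by
  set y' := y ^ (orderOf y / p) with hy'
  have hy'o : orderOf y' = p := orderOf_pow_orderOf_div (orderOf_pos y).ne' hy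
  refine ⟨x * y', ?_⟩
  rw [(hc.pow_right _).orderOf_mul_eq_mul_orderOf_of_coprime, hx, hy'o]
  rw [hx, hy'o]
  exact (Nat.coprime_primes hs hp).2 hsp

namespace Two

variable (h : Two G)

include h

/-- Two orders above `p` exclude a third one. -/
theorem eq_or_eq {p : ℕ} (hp : p.Prime) {a b c : ℕ} (ha : HasOrd G a) (hb : HasOrd G b)
    (hc : HasOrd G c) (hpa : p ∣ a) (hpb : p ∣ b) (hpc : p ∣ c) (hab : a ≠ b) : c = a ∨ c = b := by
  obtain ⟨x, rfl⟩ := ha
  obtain ⟨y, rfl⟩ := hb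
  obtain ⟨z, rfl⟩ := hc
  by_contra! hne
  exact h p hp x y z hab (Ne.symm hne.2) (Ne.symm hne.1) ⟨hpa, hpb, hpc⟩

theorem false_of_three {p : ℕ} (hp : p.Prime) {a b c : ℕ} (ha : HasOrd G a) (hb : HasOrd G b)
    (hc : HasOrd G c) (hpa : p ∣ a) (hpb : p ∣ b) (hpc : p ∣ c) (hab : a ≠ b) (hbc : b ≠ c)
    (hac : a ≠ c) : False := by
  rcases h.eq_or_eq hp ha hb hc hpa hpb hpc hab with e | e
  · exact hac e.symm
  · exact hbc e.symm

variable [Finite G]

/-- Proper multiples of `p` among the orders coincide. -/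
theorem comp_eq {p : ℕ} (hp : p.Prime) {a b : ℕ} (ha : HasOrd G a) (hb : HasOrd G b) (hpa : p ∣ a)
    (hpb : p ∣ b) (ha' : a ≠ p) (hb' : b ≠ p) : a = b := by
  rcases h.eq_or_eq hp (ha.dvd hpa) ha hb dvd_rfl hpa hpb ha'.symm with e | e
  · exact absurd e hb'
  · exact e.symm

theorem length_le {n : ℕ} (hn : HasOrd G n) : n.primeFactorsList.length ≤ 2 := by
  by_contra! hlen
  have hn0 : n ≠ 0 := by rintro rfl; simp at hlen
  match hl : n.primeFactorsList with
  | [] => simp [hl] at hlen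
  | [_] => simp [hl] at hlen
  | [_, _] => simp [hl] at hlen
  | p :: q :: r :: l =>
    have hp : p.Prime := Nat.prime_of_mem_primeFactorsList (hl ▸ List.mem_cons_self)
    have hq : q.Prime := Nat.prime_of_mem_primeFactorsList
      (hl ▸ List.mem_cons_of_mem _ List.mem_cons_self)
    have hr : r.Prime := Nat.prime_of_mem_primeFactorsList
      (hl ▸ List.mem_cons_of_mem _ (List.mem_cons_of_mem _ List.mem_cons_self))
    have he : p * (q * (r * l.prod)) = n := by
      have := Nat.prod_primeFactorsList hn0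
      rw [hl] at this
      simpa using this
    have hl0 : l.prod ≠ 0 := fun e => hn0 (by rw [← he, e]; ring)
    have hd : p * q ∣ n := he ▸ Dvd.intro (r * l.prod) (by ring)
    have := h.comp_eq hp hn (hn.dvd hd) (he ▸ dvd_mul_right _ _) (dvd_mul_right _ _)
      (fun e => ?_) (fun e => ?_)
    · have h1 : p * q * 1 = p * q * (r * l.prod) := by rw [mul_one, mul_assoc, he]; exact this.symm
      have h2 := Nat.eq_of_mul_eq_mul_left (Nat.mul_pos hp.pos hq.pos) h1
      exact hr.ne_one (Nat.dvd_one.1 ⟨l.prod, h2⟩)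
    · rw [← he] at e
      have := (Nat.mul_eq_left hp.ne_zero).1 e
      exact hq.ne_one (Nat.dvd_one.1 ⟨_, this.symm⟩)
    · exact hq.ne_one ((Nat.mul_eq_left hp.ne_zero).1 e)

omit [Finite G] in
theorem of_injective (f : H →* G) (hf : Function.Injective f) : Two H := by
  intro p hp a b c
  simpa only [orderOf_injective f hf] using h p hp (f a) (f b) (f c)

theorem subgroup (K : Subgroup G) : Two K := h.of_injective K.subtype K.subtype_injective

theorem of_surjective (f : G →* H) (hf : Function.Surjective f) : Two H := by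
  intro p hp a b c hab hbc hac hd
  obtain ⟨a', ha⟩ := (HasOrd.of_surjective f hf ⟨a, rfl⟩ : HasOrd G (orderOf a))
  obtain ⟨b', hb⟩ := (HasOrd.of_surjective f hf ⟨b, rfl⟩ : HasOrd G (orderOf b))
  obtain ⟨c', hc⟩ := (HasOrd.of_surjective f hf ⟨c, rfl⟩ : HasOrd G (orderOf c))
  rw [← ha, ← hb, ← hc] at hd
  exact h p hp a' b' c' (by omega) (by omega) (by omega) hd

theorem quotient (N : Subgroup G) [N.Normal] : Two (G ⧸ N) :=
  h.of_surjective (QuotientGroup.mk' N) (QuotientGroup.mk'_surjective N)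

theorem pow_four_eq_one {y : G} (hy : ∃ k : ℕ, y ^ (2 ^ k) = 1) : y ^ 4 = 1 := by
  obtain ⟨k, hk⟩ := hy
  obtain ⟨j, -, hj⟩ := (Nat.dvd_prime_pow Nat.prime_two).1 (orderOf_dvd_of_pow_eq_one hk)
  have hj3 : j ≤ 2 := by
    by_contra! hlt
    have h8 : HasOrd G 8 := HasOrd.of_dvd (g := y) (hj ▸ (pow_dvd_pow 2 hlt : 2 ^ 3 ∣ 2 ^ j))
    exact h.false_of_three Nat.prime_two (h8.dvd (by norm_num : 2 ∣ 8)) (h8.dvd (by norm_num : 4 ∣ 8))
      h8 dvd_rfl (by norm_num) (by norm_num) (by norm_num) (by norm_num) (by norm_num)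
  rw [← orderOf_dvd_iff_pow_eq_one, hj]
  exact (pow_dvd_pow 2 hj3 : 2 ^ j ∣ 2 ^ 2)

end Two

theorem exists_odd_prime_ne [Finite G] (hns : ¬ Group.IsSolvable G) (p : ℕ) :
    ∃ q : ℕ, q.Prime ∧ q ∣ Nat.card G ∧ q ≠ 2 ∧ q ≠ p := by
  by_contra! hcon
  by_cases hp : p.Prime
  · obtain ⟨a, b, h⟩ := FiveOrbits.eq_prime_pow_mul (q := p) Nat.card_pos.ne' Nat.prime_two
      fun d hd hdv => or_iff_not_imp_left.2 fun h2 => hcon d hd hdv h2
    exact hns (S0144.result (G := G) 2 p a b Nat.prime_two hp h)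
  · obtain ⟨a, b, h⟩ := FiveOrbits.eq_prime_pow_mul (q := 2) Nat.card_pos.ne' Nat.prime_two
      fun d hd hdv => Or.inl (by_contra fun h2 => hp (hcon d hd hdv h2 ▸ hd))
    exact hns (S0144.result (G := G) 2 2 a b Nat.prime_two Nat.prime_two h)

theorem two_dvd_card [Finite G] (hns : ¬ Group.IsSolvable G) : 2 ∣ Nat.card G := by
  by_contra h
  exact hns (S0205.result (G := G) (Nat.odd_iff.2 (Nat.two_dvd_ne_zero.1 h)))

/-- The centraliser of a nontrivial element is solvable. -/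
theorem Two.solvable_centralizer [Finite G] (h : Two G) {x : G} (hx : x ≠ 1) :
    Group.IsSolvable (centralizer ({x} : Set G)) := by
  by_contra hns
  obtain ⟨p, hp, hpd⟩ := Nat.exists_prime_and_dvd (n := orderOf x)
    fun e => hx (orderOf_eq_one_iff.1 e)
  set x' := x ^ (orderOf x / p) with hx'
  have hx'o : orderOf x' = p := orderOf_pow_orderOf_div (orderOf_pos x).ne' hpd
  have key : ∀ q : ℕ, q.Prime → q ∣ Nat.card (centralizer ({x} : Set G)) → q ≠ p →
      HasOrd G (p * q) := fun q hq hqd hne => by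
    obtain ⟨⟨y, hy⟩, hyo⟩ := hasOrd_prime (G := centralizer ({x} : Set G)) hq hqd
    rw [orderOf_mk] at hyo
    exact hasOrd_prime_mul hp hq hne.symm hx'o hyo.symm.dvd
      ((Commute.symm (mem_centralizer_singleton_iff.1 hy : Commute y x)).pow_left _)
  have hp0 : HasOrd G p := ⟨x', hx'o⟩
  obtain ⟨a, ha, had, ha2, hap⟩ := exists_odd_prime_ne hns p
  obtain ⟨b, hb, hbd, hbp, hab⟩ : ∃ b : ℕ, b.Prime ∧ b ∣ Nat.card (centralizer ({x} : Set G)) ∧
      b ≠ p ∧ b ≠ a := by
    by_cases hp2 : p = 2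
    · obtain ⟨b, hb, hbd, hb2, hba⟩ := exists_odd_prime_ne hns a
      exact ⟨b, hb, hbd, hp2 ▸ hb2, hba⟩
    · exact ⟨2, Nat.prime_two, two_dvd_card hns, Ne.symm hp2, ha2.symm⟩
  refine h.false_of_three hp hp0 (key a ha had hap) (key b hb hbd hbp) dvd_rfl (dvd_mul_right _ _)
    (dvd_mul_right _ _) ?_ ?_ ?_
  · intro e; exact ha.ne_one ((Nat.mul_eq_left hp.ne_zero).1 e.symm)
  · intro e; exact hab (Nat.eq_of_mul_eq_mul_left hp.pos e).symm
  · intro e; exact hb.ne_one ((Nat.mul_eq_left hp.ne_zero).1 e.symm)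

/-- A nonsolvable subgroup has trivial centraliser. -/
theorem Two.centralizer_eq_one [Finite G] (h : Two G) {K : Subgroup G} (hK : ¬ Group.IsSolvable K)
    {x : G} (hx : x ∈ centralizer (K : Set G)) : x = 1 := by
  by_contra hx1
  have hle : K ≤ centralizer ({x} : Set G) := fun k hk =>
    mem_centralizer_singleton_iff.2 (mem_centralizer_iff.1 hx k hk)
  haveI := h.solvable_centralizer hx1
  exact hK (Group.isSolvable_of_isSolvable_injective (Subgroup.inclusion_injective hle))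

/-- An involution outside a `2`-core inverts a nontrivial element of odd order. -/
theorem exists_inverted [Finite G] {z : G} (hz : orderOf z = 2)
    (hO : ∀ N : Subgroup G, N.Normal → IsPGroup 2 N → z ∉ N) :
    ∃ g k : G, orderOf k ≠ 1 ∧ Odd (orderOf k) ∧ z * k * z⁻¹ = k⁻¹ ∧
      k ∈ zpowers (z * (g * z * g⁻¹)) := by
  haveI : Fact (Nat.Prime 2) := ⟨Nat.prime_two⟩
  have hz2 : z * z = 1 := by rw [← pow_two, ← hz]; exact pow_orderOf_eq_one z
  by_contra hcon
  push Not at hcon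
  obtain ⟨N, hN, hNp, hzN⟩ := Thompson.baer_suzuki (x := z) (p := 2) fun g => by
    have hg2 : (g * z * g⁻¹) * (g * z * g⁻¹) = 1 := by
      rw [show (g * z * g⁻¹) * (g * z * g⁻¹) = g * (z * z) * g⁻¹ by group, hz2, mul_one,
        mul_inv_cancel]
    obtain ⟨a, m, hm, hnm⟩ :=
      Nat.exists_eq_two_pow_mul_odd (orderOf_pos (z * (g * z * g⁻¹))).ne'
    refine H26.isPGroup_closure_pair hz2 hg2 (a := a) ?_
    set d := (z * (g * z * g⁻¹)) ^ (2 ^ a) with hd
    have hdm : d ^ m = 1 := by rw [hd, ← pow_mul, ← hnm, pow_orderOf_eq_one]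
    by_contra hd1
    have hinv : z * d * z⁻¹ = d⁻¹ := by
      rw [show z⁻¹ = z from inv_eq_of_mul_eq_one_right hz2, hd, ← zpow_natCast,
        H26.conj_zpow_mul hz2 hg2, zpow_neg]
    exact hcon g d (fun e => hd1 (orderOf_eq_one_iff.1 e))
      (hm.of_dvd_nat (orderOf_dvd_of_pow_eq_one hdm)) hinv (pow_mem (mem_zpowers _) _)
  exact hO N hN hNp hzN

end Cfsg.Agent.H76.ThreeOrders
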