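import Cfsg.Agent.H76.ThreeOrders.Frattini
import Cfsg.Agent.Linear.Dickson.Orders
import Cfsg.Agent.H62.PushL2
import Cfsg.Agent.S0809
import Cfsg.Agent.S0820
import Cfsg.Agent.H58.PSLThreeFour
import Cfsg.Agent.H70.SpectrumCN
import Cfsg.Agent.Suzuki.Solubilizer
import Cfsg.Agent.Components.CyclicSylow

/-!
Classes of involutions and of cyclic subgroups of prime order in the simple groups that occur.
-/

set_option autoImplicit false
set_option linter.style.haveILetI false
set_option linter.unusedSectionVars false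

namespace Cfsg.Agent.H76.ThreeOrders

open Subgroup

/-- All involutions are conjugate. -/
def InvConj (S : Type*) [Group S] : Prop :=
  ∀ x y : S, orderOf x = 2 → orderOf y = 2 → ∃ g : S, g * x * g⁻¹ = y

/-- One inverted class of subgroups of order `s`. -/
def Cls (S : Type*) [Group S] (s : ℕ) : Prop :=
  ∃ x : S, orderOf x = s ∧ (∀ y : S, orderOf y = s → ∃ g : S, g * y * g⁻¹ ∈ zpowers x) ∧
    ∃ w : S, w * x * w⁻¹ = x⁻¹

/-- A class of subgroups of order `s` with an automiser of order `m`. -/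
def ClsAut (S : Type*) [Group S] (s m : ℕ) : Prop :=
  ∃ x : S, orderOf x = s ∧ (∀ y : S, orderOf y = s → ∃ g : S, g * y * g⁻¹ ∈ zpowers x) ∧
    ∃ (w : S) (v : ℕ), w * x * w⁻¹ = x ^ v ∧ IsPrimitiveRoot (v : ZMod s) m

section Transport

variable {S S' : Type*} [Group S] [Group S'] (e : S ≃* S')

include e

theorem InvConj.of_mulEquiv (h : InvConj S) : InvConj S' := fun x y hx hy => by
  obtain ⟨g, hg⟩ := h (e.symm x) (e.symm y) (by simpa using hx) (by simpa using hy)
  exact ⟨e g, by simpa using congrArg e hg⟩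

theorem conj_mem_zpowers_map {x y g : S} (h : g * y * g⁻¹ ∈ zpowers x) :
    e g * e y * (e g)⁻¹ ∈ zpowers (e x) := by
  obtain ⟨k, hk⟩ := mem_zpowers_iff.1 h
  exact mem_zpowers_iff.2 ⟨k, by simpa using congrArg e hk⟩

theorem Cls.of_mulEquiv {s : ℕ} (h : Cls S s) : Cls S' s := by
  obtain ⟨x, hx, hc, w, hw⟩ := h
  refine ⟨e x, by rwa [MulEquiv.orderOf_eq], fun y hy => ?_, e w, by simpa using congrArg e hw⟩
  obtain ⟨g, hg⟩ := hc (e.symm y) (by simpa using hy)
  exact ⟨e g, by simpa using conj_mem_zpowers_map e hg⟩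

theorem ClsAut.of_mulEquiv {s m : ℕ} (h : ClsAut S s m) : ClsAut S' s m := by
  obtain ⟨x, hx, hc, w, v, hw, hv⟩ := h
  refine ⟨e x, by rwa [MulEquiv.orderOf_eq], fun y hy => ?_, e w, v,
    by simpa using congrArg e hw, hv⟩
  obtain ⟨g, hg⟩ := hc (e.symm y) (by simpa using hy)
  exact ⟨e g, by simpa using conj_mem_zpowers_map e hg⟩

end Transport

/-- A cyclic subgroup with index prime to `s` gives one class of subgroups of order `s`. -/
theorem conj_of_cyclic {S : Type*} [Group S] [Finite S] {C : Subgroup S} [IsCyclic C] {s : ℕ}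
    (hs : s.Prime) (hidx : ¬ s ∣ C.index) {x : S} (hxC : x ∈ C) (hx : orderOf x = s) {y : S}
    (hy : orderOf y = s) : ∃ g : S, g * y * g⁻¹ ∈ zpowers x := by
  haveI := Fact.mk hs
  obtain ⟨Q, hQ⟩ := (IsPGroup.of_card (p := s) (n := 1)
    (show Nat.card (zpowers y) = s ^ 1 by rw [Nat.card_zpowers, hy, pow_one])).exists_le_sylow
  obtain ⟨P⟩ : Nonempty (Sylow s ↥C) := inferInstance
  obtain ⟨P', hP'⟩ := (P.isPGroup'.map C.subtype).exists_le_sylow
  have heq : (P : Subgroup ↥C).map C.subtype = (P' : Subgroup S) := by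
    refine eq_of_le_of_card_ge hP' (le_of_eq ?_)
    rw [card_map_of_injective C.subtype_injective, Sylow.card_eq_multiplicity,
      Sylow.card_eq_multiplicity, ← C.card_mul_index,
      Nat.factorization_mul Nat.card_pos.ne' index_ne_zero_of_finite, Finsupp.add_apply,
      Nat.factorization_eq_zero_of_not_dvd hidx, add_zero]
  obtain ⟨g, hg⟩ := MulAction.exists_smul_eq S Q P'
  have hmem : g * y * g⁻¹ ∈ (P' : Subgroup S) := by
    rw [← hg, Sylow.coe_subgroup_smul, mem_pointwise_smul_iff_inv_smul_mem]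
    simp only [MulAut.smul_def, MulAut.conj_inv_apply]
    simpa [mul_assoc] using hQ (mem_zpowers y)
  rw [← heq] at hmem
  obtain ⟨⟨z, hz⟩, -, hzy⟩ := hmem
  refine ⟨g, ?_⟩
  have hzy : z = g * y * g⁻¹ := hzy
  have hpow : (⟨z, hz⟩ : C) ^ s = 1 := Subtype.ext (by
    push_cast
    rw [hzy, conj_pow, ← hy, pow_orderOf_eq_one, mul_one, mul_inv_cancel])
  obtain ⟨k, hk⟩ := mem_zpowers_iff.1
    (Components.mem_zpowers_of_pow_eq_one (p := s) (z := (⟨x, hxC⟩ : C))
      (by rw [orderOf_mk, hx]) hpow)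
  exact mem_zpowers_iff.2 ⟨k, by rw [← hzy]; exact congrArg Subtype.val hk⟩

section PSL

variable {F : Type*} [Field F] [Fintype F]

local notation "P2" => Matrix.ProjectiveSpecialLinearGroup (Fin 2) F

open Linear.Dickson in
theorem cls_torus (hq : 4 ≤ Fintype.card F) {s : ℕ} (hs : s.Prime) (hs2 : s ≠ 2)
    (hsq : ¬ s ∣ Fintype.card F) (hsd : s ∣ Fintype.card F ^ 2 - 1) : Cls P2 s := by
  classical
  haveI := Fact.mk hs
  set q := Fintype.card F
  set d := Nat.gcd 2 (q - 1) with hd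
  have hdm : d ∣ q - 1 := Nat.gcd_dvd_right 2 _
  have hdp : d ∣ q + 1 := gcd_dvd_add_one q (by omega)
  have hd2 : d ≤ 2 := Nat.le_of_dvd two_pos (Nat.gcd_dvd_left 2 _)
  have hd0 : 0 < d := Nat.gcd_pos_of_pos_left _ two_pos
  have hprod : q ^ 2 - 1 = (q + 1) * (q - 1) := by simpa using Nat.sq_sub_sq q 1
  have hsd' : ¬ s ∣ d := fun h => hs2 ((Nat.prime_dvd_prime_iff_eq hs Nat.prime_two).1
    (h.trans (Nat.gcd_dvd_left 2 _)))
  have hcard : d * Nat.card P2 = q * (q ^ 2 - 1) := Linear.card_PSL_two_mul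
  have key : ∀ a : P2, ¬ IsUni a → ∀ n m : ℕ, n * m = (q + 1) * (q - 1) → d ∣ n →
      Nat.card (cen a) = n / d → s ∣ n → ¬ s ∣ m → Cls P2 s := by
    intro a ha n m hnm hdn hc hsn hsm
    haveI := isCyclic_cen ha
    have hsn' : s ∣ n / d := by
      have : s ∣ d * (n / d) := by rwa [Nat.mul_div_cancel' hdn]
      exact ((Nat.Prime.dvd_mul hs).1 this).resolve_left hsd'
    obtain ⟨⟨x, hxC⟩, hx⟩ := hasOrd_prime (G := cen a) hs (hc ▸ hsn')
    rw [orderOf_mk] at hx
    have hidx : (cen a).index = q * m := by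
      have hn0 : 0 < n := by
        rcases Nat.eq_zero_or_pos n with rfl | h
        · simp only [zero_mul] at hnm
          rcases Nat.mul_eq_zero.1 hnm.symm with h | h <;> omega
        · exact h
      have h := (cen a).card_mul_index
      refine Nat.eq_of_mul_eq_mul_left hn0 ?_
      calc n * (cen a).index = d * (n / d) * (cen a).index := by rw [Nat.mul_div_cancel' hdn]
        _ = d * Nat.card P2 := by rw [← h, hc]; ring
        _ = n * (q * m) := by rw [hcard, hprod, ← hnm]; ring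
    obtain ⟨w, -, -, -, hinv⟩ := exists_torus_inverter ha
    refine ⟨x, hx, fun y hy => conj_of_cyclic hs ?_ hxC hx hy, w, hinv x hxC⟩
    rw [hidx]
    exact fun h => ((Nat.Prime.dvd_mul hs).1 h).elim hsq hsm
  have hnot : ¬ (s ∣ q - 1 ∧ s ∣ q + 1) := fun ⟨h1, h2⟩ => by
    have := Nat.dvd_sub h2 h1
    rw [show q + 1 - (q - 1) = 2 by omega] at this
    exact hs2 ((Nat.prime_dvd_prime_iff_eq hs Nat.prime_two).1 this)
  rcases (Nat.Prime.dvd_mul hs).1 (hprod ▸ hsd) with h | h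
  · obtain ⟨a, ha, hc⟩ := exists_nonsplit (F := F)
    exact key a ha _ _ rfl hdp hc h fun h' => hnot ⟨h', h⟩
  · obtain ⟨a, ha, hc⟩ := exists_split (F := F) hq
    exact key a ha _ _ (mul_comm _ _) hdm hc h fun h' => hnot ⟨h, h'⟩

theorem invConj_even {n : ℕ} (hF : Fintype.card F = 2 ^ n) : InvConj P2 := fun x y hx hy => by
  haveI := H62.PU.charP_two F hF
  have hsq : ∀ z : P2, orderOf z = 2 → z ≠ 1 ∧ z * z = 1 := fun z hz =>
    ⟨fun h => by rw [h, orderOf_one] at hz; omega,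
      by have := pow_orderOf_eq_one z; rwa [hz, pow_two] at this⟩
  exact H62.PU.psl_involutions_conj (hsq x hx).1 (hsq x hx).2 (hsq y hy).1 (hsq y hy).2

theorem invConj_odd (hodd : Odd (Fintype.card F)) : InvConj P2 := fun x y hx hy => by
  classical
  haveI : Fact (Nat.Prime 2) := ⟨Nat.prime_two⟩
  let S2 := Matrix.SpecialLinearGroup (Fin 2) F
  obtain ⟨A, hA⟩ : ∃ A : Subgroup S2, Nat.card A = 4 := by
    let g : S2 := ⟨!![0, 1; -1, 0], by simp [Matrix.det_fin_two]⟩
    have h2 := Linear.two_ne_zero_of_odd_card hodd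
    have dmul : ∀ M N : S2, ((M * N : S2) : Matrix (Fin 2) (Fin 2) F) = M.1 * N.1 := fun _ _ => rfl
    have hg2 : g ^ 2 ≠ 1 := fun h => by
      rw [pow_two] at h
      have := congrArg (fun M : S2 => (M : Matrix (Fin 2) (Fin 2) F) 0 0) h
      simp only [dmul] at this
      simp [g, Matrix.mul_apply, Fin.sum_univ_two] at this
      exact h2 (by linear_combination -this)
    have hg4 : g ^ 4 = 1 := Subtype.ext (by
      rw [show g ^ 4 = g * g * (g * g) by rw [← pow_two, ← pow_two, ← pow_mul], dmul, dmul]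
      ext i j
      fin_cases i <;> fin_cases j <;> simp [g, Matrix.mul_apply, Fin.sum_univ_two])
    exact ⟨zpowers g, by
      rw [Nat.card_zpowers, orderOf_eq_prime_pow (p := 2) (n := 1) (by simpa using hg2)
        (by simpa using hg4)]; norm_num⟩
  exact isConj_iff.1 ((S0809.result rfl hodd A hA).2.2.2 x y hx hy)

/-- In `PSL₂(13)` an element of order three acts on the subgroup of order thirteen. -/
theorem clsAut_thirteen (hF : Fintype.card F = 13) : ClsAut P2 13 3 := by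
  classical
  haveI : Fact (Nat.Prime 13) := ⟨by norm_num⟩
  haveI : Fact (Nat.Prime 3) := ⟨Nat.prime_three⟩
  have hc : Nat.card P2 = 1092 := by
    have h := Linear.card_PSL_two_mul (F := F)
    rw [hF, show Nat.gcd 2 (13 - 1) = 2 from rfl] at h; omega
  haveI : IsSimpleGroup P2 := Linear.isSimpleGroup_PSL_fin le_rfl (fun _ => by
    rw [Nat.card_eq_fintype_card, hF]; norm_num)
  obtain ⟨P⟩ : Nonempty (Sylow 13 P2) := inferInstance
  have hP : Nat.card (P : Subgroup P2) = 13 := by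
    rw [P.card_eq_multiplicity, hc, show 1092 = 13 * 84 by norm_num,
      Nat.factorization_mul (by norm_num) (by norm_num), Finsupp.add_apply,
      (by norm_num : Nat.Prime 13).factorization, Finsupp.single_eq_same,
      Nat.factorization_eq_zero_of_not_dvd (by norm_num : ¬ 13 ∣ 84)]
    norm_num
  haveI : IsCyclic (P : Subgroup P2) := isCyclic_of_prime_card (p := 13) hP
  obtain ⟨⟨x, hxP⟩, hx⟩ := hasOrd_prime (G := (P : Subgroup P2)) (by norm_num : Nat.Prime 13)
    (by rw [hP])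
  rw [orderOf_mk] at hx
  have hidx : (P : Subgroup P2).index = 84 := by
    have := (P : Subgroup P2).card_mul_index
    rw [hP, hc] at this; omega
  have hn : Nat.card (Sylow 13 P2) = 14 := by
    have h1 : Nat.card (Sylow 13 P2) ≡ 1 [MOD 13] := card_sylow_modEq_one 13 P2
    have h2 : Nat.card (Sylow 13 P2) ∣ 84 := hidx ▸ P.card_dvd_index
    have h3 : Nat.card (Sylow 13 P2) ≠ 1 := fun h => by
      haveI := (Nat.card_eq_one_iff_unique.1 h).1
      rcases (P.normal_of_subsingleton).eq_bot_or_eq_top with e | e <;> rw [e] at hP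
      · simp at hP
      · rw [Subgroup.card_top, hc] at hP; omega
    have := Nat.le_of_dvd (by norm_num) h2
    unfold Nat.ModEq at h1
    interval_cases hcv : Nat.card (Sylow 13 P2) <;> omega
  set N := normalizer ((P : Subgroup P2) : Set P2) with hN
  have hNc : Nat.card N = 78 := by
    have h := N.card_mul_index
    rw [show N.index = 14 from (Sylow.card_eq_index_normalizer P).symm.trans hn, hc] at h; omega
  obtain ⟨⟨w, hw⟩, hwo⟩ := hasOrd_prime (G := N) Nat.prime_three (by rw [hNc]; norm_num)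
  rw [orderOf_mk] at hwo
  obtain ⟨k, hk⟩ := (mem_powers_iff_mem_zpowers).2
    (Subgroup.mem_zpowers_iff.2 ((mem_zpowers_iff).1
      (show w * x * w⁻¹ ∈ zpowers x by
        have hm : w * x * w⁻¹ ∈ (P : Subgroup P2) := (mem_normalizer_iff.1 hw x).1 hxP
        obtain ⟨j, hj⟩ := mem_zpowers_iff.1 (Components.mem_zpowers_of_pow_eq_one (p := 13)
          (z := (⟨x, hxP⟩ : (P : Subgroup P2))) (y := ⟨_, hm⟩) (by rw [orderOf_mk, hx])
          (Subtype.ext (by push_cast; rw [conj_pow, ← hx, pow_orderOf_eq_one, mul_one, mul_inv_cancel])))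
        exact mem_zpowers_iff.2 ⟨j, congrArg Subtype.val hj⟩)))
  refine ⟨x, hx, fun y hy => conj_of_cyclic (C := (P : Subgroup P2)) (by norm_num)
    (by rw [hidx]; norm_num) hxP hx hy, w, k, hk.symm, ?_⟩
  rw [IsPrimitiveRoot.iff_orderOf]
  refine orderOf_eq_prime (Ext.cast_pow_eq_one hx hk.symm (hwo ▸ pow_orderOf_eq_one w)) fun h1 => ?_
  have hcom : Commute x w := by
    have : x ^ k = x ^ 1 := Ext.pow_of_cast_eq hx (by rw [h1, Nat.cast_one])
    rw [pow_one] at this
    exact (mul_inv_eq_iff_eq_mul.1 (hk.symm.trans this)).symm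
  have hord : HasOrd P2 (13 * 3) :=
    hasOrd_prime_mul (by norm_num) Nat.prime_three (by norm_num) hx hwo.symm.dvd hcom
  obtain ⟨g, hg⟩ := hord
  obtain ⟨p, hchar⟩ := CharP.exists F
  haveI : Fact p.Prime := ⟨CharP.char_is_prime F p⟩
  obtain ⟨z, hz⟩ := QuotientGroup.mk'_surjective _ g
  have := H55.toPSL_two_orderOf_dvd (F := F) p z
  rw [show H55.toPSL z = g from hz, hg] at this
  have hp : p = 13 := by
    obtain ⟨n, hp, hn'⟩ := FiniteField.card F p
    rw [hF] at hn'
    exact (Nat.prime_dvd_prime_iff_eq hp (by norm_num)).1 (hn' ▸ dvd_pow_self p n.ne_zero)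
  rw [hp, hF] at this
  norm_num at this

end PSL

section PSLThree

variable {F : Type*} [Field F] [Fintype F]

theorem cls_psl_three (hF : Fintype.card F = 4) :
    Cls (Matrix.ProjectiveSpecialLinearGroup (Fin 3) F) 3 := by
  classical
  haveI : Fact (Nat.Prime 3) := ⟨Nat.prime_three⟩
  obtain ⟨w, hw, h2⟩ := H58.PSL34.exists_omega hF
  have h3 : w ^ 3 = 1 := by linear_combination (w + 1) * hw + w * h2
  let d : Matrix.SpecialLinearGroup (Fin 3) F := ⟨!![1, 0, 0; 0, w, 0; 0, 0, w ^ 2], by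
    simp [Matrix.det_fin_three]; linear_combination h3⟩
  let t : Matrix.SpecialLinearGroup (Fin 3) F := ⟨!![1, 0, 0; 0, 0, 1; 0, 1, 0], by
    simp [Matrix.det_fin_three]; linear_combination -h2⟩
  let q := QuotientGroup.mk' (Subgroup.center (Matrix.SpecialLinearGroup (Fin 3) F))
  have dmul : ∀ M N : Matrix.SpecialLinearGroup (Fin 3) F,
      ((M * N : Matrix.SpecialLinearGroup (Fin 3) F) : Matrix (Fin 3) (Fin 3) F) = M.1 * N.1 :=
    fun _ _ => rfl
  have hd3 : d ^ 3 = 1 := Subtype.ext (by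
    rw [show d ^ 3 = d * d * d by rw [pow_succ, pow_two], dmul, dmul]
    ext i j
    fin_cases i <;> fin_cases j <;> simp [d] <;> grind)
  have htd : t * d = d * d * t := Subtype.ext (by
    rw [dmul, dmul, dmul]
    ext i j
    fin_cases i <;> fin_cases j <;> simp [t, d] <;> grind)
  have hne : q d ≠ 1 := fun h => by
    have h' : d ∈ Subgroup.center (Matrix.SpecialLinearGroup (Fin 3) F) :=
      (QuotientGroup.eq_one_iff d).1 h
    obtain ⟨r, -, hr⟩ := Matrix.SpecialLinearGroup.mem_center_iff.1 h'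
    have e0 := congrFun (congrFun hr 0) 0
    have e1 := congrFun (congrFun hr 1) 1
    simp [d, Matrix.scalar_apply] at e0 e1
    rw [e0] at e1
    rw [← e1] at hw
    exact one_ne_zero (α := F) (by linear_combination -hw)
  have hx : orderOf (q d) = 3 := orderOf_eq_prime (by rw [← map_pow, hd3, map_one]) hne
  refine ⟨q d, hx, fun y hy => ?_, q t, ?_⟩
  · obtain ⟨g, hg⟩ := H58.PSL34.one_class hF (zpowers y) (by rw [Nat.card_zpowers, hy])
      (zpowers (q d)) (by rw [Nat.card_zpowers, hx])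
    refine ⟨g, ?_⟩
    rw [← hg]
    exact ⟨y, mem_zpowers y, rfl⟩
  · rw [mul_inv_eq_iff_eq_mul, ← map_mul, htd, map_mul, map_mul]
    congr 1
    rw [eq_inv_iff_mul_eq_one, ← map_mul, ← map_mul,
      show d * d * d = d ^ 3 by rw [pow_succ, pow_two], hd3, map_one]

theorem invConj_psl_three (hF : Fintype.card F = 4) :
    InvConj (Matrix.ProjectiveSpecialLinearGroup (Fin 3) F) := fun x y hx hy =>
  isConj_iff.1 (S0820.result hF x y hx hy)

end PSLThree

section Suzuki

variable {F : Type*} [Field F] [Fintype F] (m : ℕ) [Suzuki.SzField F m]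

theorem invConj_suzuki : InvConj (Cfsg.Sz F m) := fun _ _ hx hy =>
  isConj_iff.1 (Suzuki.isConj_involutions m hx hy)

theorem clsAut_suzuki : ClsAut (Cfsg.Sz F m) 5 4 := by
  classical
  haveI : Fact (Nat.Prime 5) := ⟨Nat.prime_five⟩
  have hm : 1 ≤ m := Suzuki.SzField.pos F
  set q := 2 ^ (2 * m + 1) with hq
  have hqF : Nat.card F = q := by rw [Nat.card_eq_fintype_card, Suzuki.SzField.card_eq (m := m)]
  have hlt : 2 ^ (m + 1) < q := Nat.pow_lt_pow_right one_lt_two (by omega)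
  have hh : 2 ^ (m + 1) * 2 ^ (m + 1) = 2 * q := by rw [hq, ← pow_add, ← pow_succ']; ring_nf
  have hprod : Suzuki.aPlus m * Suzuki.aMinus m = q ^ 2 + 1 := by
    show (q + 2 ^ (m + 1) + 1) * (q - 2 ^ (m + 1) + 1) = q ^ 2 + 1
    obtain ⟨u, hu⟩ : ∃ u, q = u + 2 ^ (m + 1) := ⟨q - 2 ^ (m + 1), by omega⟩
    generalize 2 ^ (m + 1) = h at *
    rw [hu, Nat.add_sub_cancel]
    rw [hu] at hh
    nlinarith
  have hq5 : q % 5 = 2 ∨ q % 5 = 3 := by
    rw [hq, pow_succ, pow_mul, Nat.mul_mod, Nat.pow_mod]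
    rcases Nat.even_or_odd' m with ⟨k, rfl | rfl⟩
    · left; rw [pow_mul, Nat.pow_mod]; norm_num
    · right; rw [pow_succ, pow_mul, Nat.mul_mod, Nat.pow_mod]; norm_num [Nat.mul_mod, Nat.pow_mod]
  have h5Q : 5 ∣ q ^ 2 + 1 := by
    apply Nat.dvd_of_mod_eq_zero
    rw [Nat.add_mod, Nat.pow_mod]
    rcases hq5 with e | e <;> rw [e]
  obtain ⟨g, a, b, hg, hc, hab, h5, hne⟩ : ∃ (g : Cfsg.Sz F m) (a b : ℕ), Suzuki.FixFree m g ∧
      Nat.card (centralizer ({g} : Set (Cfsg.Sz F m))) = a ∧ a * b = q ^ 2 + 1 ∧ 5 ∣ a ∧ ¬ 5 ∣ b := by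
    have hnot : ¬ (5 ∣ Suzuki.aPlus m ∧ 5 ∣ Suzuki.aMinus m) := fun ⟨h1, h2⟩ => by
      have h3 := Nat.dvd_sub h1 h2
      rw [show Suzuki.aPlus m - Suzuki.aMinus m = 2 ^ (m + 2) by
        rw [pow_succ 2 (m + 1)]; simp only [Suzuki.aPlus, Suzuki.aMinus]; omega] at h3
      have := (Nat.prime_dvd_prime_iff_eq Nat.prime_five Nat.prime_two).1
        (Nat.prime_five.dvd_of_dvd_pow h3)
      omega
    obtain ⟨-, ⟨g₁, hg₁, hc₁⟩, ⟨g₂, hg₂, hc₂⟩⟩ := Suzuki.torus_classes (F := F) m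
    rcases Nat.prime_five.dvd_mul.1 (hprod ▸ h5Q) with h | h
    · exact ⟨g₁, _, _, hg₁, hc₁, hprod, h, fun h' => hnot ⟨h, h'⟩⟩
    · exact ⟨g₂, _, _, hg₂, hc₂, (mul_comm _ _).trans hprod, h, fun h' => hnot ⟨h', h⟩⟩
  set V := centralizer ({g} : Set (Cfsg.Sz F m)) with hV
  haveI := Suzuki.centralizer_cyclic m hg
  have haQ : a ≠ q - 1 := fun e => by rcases hq5 with e' | e' <;> omega
  have hPart : Suzuki.IsCyclicPart m V := by
    refine ⟨inferInstance, Or.inr ?_⟩
    exact ((Suzuki.torus_classes (F := F) m).1 g hg).1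
  obtain ⟨⟨x, hxV⟩, hx⟩ := hasOrd_prime (G := V) Nat.prime_five (hc ▸ h5)
  rw [orderOf_mk] at hx
  have hx1 : x ≠ 1 := fun h => by rw [h, orderOf_one] at hx; omega
  obtain ⟨w, hw, hwo⟩ := hPart.exists_order_four (by rw [hc]; exact haQ)
  have hmem : w * x * w⁻¹ ∈ zpowers x := by
    have hm' : w * x * w⁻¹ ∈ V := (mem_normalizer_iff.1 hw x).1 hxV
    obtain ⟨j, hj⟩ := mem_zpowers_iff.1 (Components.mem_zpowers_of_pow_eq_one (p := 5)
      (z := (⟨x, hxV⟩ : V)) (y := ⟨_, hm'⟩) (by rw [orderOf_mk, hx])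
      (Subtype.ext (by push_cast; rw [conj_pow, ← hx, pow_orderOf_eq_one, mul_one, mul_inv_cancel])))
    exact mem_zpowers_iff.2 ⟨j, congrArg Subtype.val hj⟩
  rw [← mem_powers_iff_mem_zpowers] at hmem
  obtain ⟨k, hk⟩ := hmem
  have hidx : ¬ 5 ∣ V.index := by
    intro h
    have hcm := V.card_mul_index
    rw [hc, Suzuki.card_Sz m, hqF, ← hab] at hcm
    have e : V.index = q ^ 2 * (q - 1) * b := Nat.eq_of_mul_eq_mul_left (Nat.pos_of_ne_zero
      (fun e => by rw [e, zero_mul] at hab; omega)) (hcm.trans (by ring))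
    rw [e] at h
    rcases Nat.prime_five.dvd_mul.1 h with h | h
    · rcases Nat.prime_five.dvd_mul.1 h with h | h
      · have := (Nat.prime_dvd_prime_iff_eq Nat.prime_five Nat.prime_two).1
          (Nat.prime_five.dvd_of_dvd_pow (by rwa [hq, ← pow_mul] at h))
        omega
      · rcases hq5 with e' | e' <;> omega
    · exact hne h
  refine ⟨x, hx, fun y hy => conj_of_cyclic Nat.prime_five hidx hxV hx hy, w, k, hk.symm, ?_⟩
  rw [IsPrimitiveRoot.iff_orderOf]
  haveI : Fact (Nat.Prime 2) := ⟨Nat.prime_two⟩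
  refine orderOf_eq_prime_pow (p := 2) (n := 1) (fun h2 => ?_)
    (Ext.cast_pow_eq_one hx hk.symm (show w ^ (2 ^ 2) = 1 from (orderOf_dvd_iff_pow_eq_one.1 (by rw [hwo]) : w ^ 4 = 1)))
  have hcom : Commute x (w ^ 2) := by
    have h := Ext.conj_pow_iterate hk.symm 2
    have e : x ^ (k ^ 2) = x ^ 1 := Ext.pow_of_cast_eq hx (by rw [Nat.cast_pow, Nat.cast_one]; simpa using h2)
    rw [e, pow_one] at h
    exact (mul_inv_eq_iff_eq_mul.1 h).symm
  have hwV : w ^ 2 ∈ V := by
    rw [← hPart.centralizer_eq hxV hx1]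
    exact mem_centralizer_singleton_iff.2 hcom.symm.eq
  have ho : orderOf (w ^ 2) = 2 := by rw [orderOf_pow, hwo]; rfl
  have hd := orderOf_dvd_natCard V hwV
  rw [ho, hc] at hd
  have hq2 : 2 ∣ q ^ 2 := dvd_pow (dvd_pow_self 2 (by omega)) two_ne_zero
  have hd2 : 2 ∣ q ^ 2 + 1 := hab ▸ hd.mul_right b
  omega

end Suzuki

end Cfsg.Agent.H76.ThreeOrders
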