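import Cfsg.Agent.H76.ThreeOrders.Basic

/-!
Frattini arguments for a normal subgroup of prime index.
-/

set_option autoImplicit false
set_option linter.style.haveILetI false
set_option linter.unusedSectionVars false

namespace Cfsg.Agent.H76.ThreeOrders

open Subgroup

/-- A normal subgroup of prime index. -/
structure Ext {A : Type*} [Group A] (S : Subgroup A) (l : ℕ) : Prop where
  normal : S.Normal
  prime : l.Prime
  index : S.index = l

namespace Ext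

variable {A : Type*} [Group A] [Finite A] {S : Subgroup A} {l : ℕ} (E : Ext S l)

include E

theorem pow_mem (a : A) : a ^ l ∈ S := by
  haveI := E.normal
  rw [← E.index]
  exact Subgroup.pow_index_mem S a

theorem exists_not_mem : ∃ a : A, a ∉ S := by
  by_contra! h
  exact E.prime.ne_one (E.index ▸ index_eq_one.2 ((eq_top_iff' S).2 h))

/-- The `l`-part of an outer element is outer. -/
theorem exists_part {a : A} (ha : a ∉ S) :
    ∃ m : ℕ, a ^ m ∉ S ∧ ∃ k : ℕ, (a ^ m) ^ (l ^ k) = 1 := by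
  set e := (orderOf a).factorization l
  have hm := Nat.ordProj_mul_ordCompl_eq_self (orderOf a) l
  refine ⟨orderOf a / l ^ e, fun h => ha ?_, e, ?_⟩
  · have hco := Nat.coprime_ordCompl E.prime (orderOf_pos a).ne'
    have h2 := E.pow_mem a
    obtain ⟨u, v, huv⟩ := Nat.isCoprime_iff_coprime.2 hco
    have e1 : a = (a ^ l) ^ u * (a ^ (orderOf a / l ^ e)) ^ v := by
      rw [← zpow_natCast, ← zpow_natCast, ← zpow_mul, ← zpow_mul, ← zpow_add, mul_comm (l : ℤ),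
        mul_comm ((orderOf a / l ^ e : ℕ) : ℤ), huv, zpow_one]
    rw [e1]
    exact mul_mem (zpow_mem h2 _) (zpow_mem h _)
  · rw [← pow_mul, mul_comm, hm, pow_orderOf_eq_one]

/-- An outer element centralising an element of prime order. -/
theorem hasOrd_of_outer {x c : A} {s : ℕ} (hs : s.Prime) (hsl : s ≠ l) (hx : orderOf x = s)
    (hc : Commute x c) (hcS : c ∉ S) : HasOrd A (s * l) := by
  obtain ⟨m, hm, k, hk⟩ := E.exists_part hcS
  refine hasOrd_prime_mul hs E.prime hsl hx ?_ (hc.pow_right m)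
  obtain ⟨j, -, hj⟩ := (Nat.dvd_prime_pow E.prime).1 (orderOf_dvd_of_pow_eq_one hk)
  rcases Nat.eq_zero_or_pos j with rfl | hj0
  · exact absurd (one_mem S) (by rw [pow_zero, orderOf_eq_one_iff] at hj; rwa [hj] at hm)
  · exact hj ▸ dvd_pow_self l hj0.ne'

/-- When the `S`-class of `x` is invariant, its centraliser covers the quotient. -/
theorem exists_centralizing {x : A} (hxS : x ∈ S)
    (hconj : ∀ y ∈ S, orderOf y = orderOf x → ∃ g ∈ S, g * y * g⁻¹ = x) :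
    ∃ c, Commute x c ∧ c ∉ S := by
  obtain ⟨a, ha⟩ := E.exists_not_mem
  haveI := E.normal
  obtain ⟨g, hg, hgx⟩ := hconj (a * x * a⁻¹) (E.normal.conj_mem x hxS a)
    (by rw [← MulAut.conj_apply, MulEquiv.orderOf_eq])
  refine ⟨g * a, ?_, fun h => ha (by simpa using mul_mem (inv_mem hg) h)⟩
  show x * (g * a) = g * a * x
  calc x * (g * a) = g * (a * x * a⁻¹) * g⁻¹ * (g * a) := by rw [hgx]
    _ = g * a * x := by group

omit E in
theorem conj_pow_iterate {x y : A} {i : ℕ} (h : y * x * y⁻¹ = x ^ i) (n : ℕ) :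
    y ^ n * x * (y ^ n)⁻¹ = x ^ (i ^ n) := by
  induction n with
  | zero => simp
  | succ n ih =>
    calc y ^ (n + 1) * x * (y ^ (n + 1))⁻¹ = y * (y ^ n * x * (y ^ n)⁻¹) * y⁻¹ := by
          rw [pow_succ']; group
      _ = (y * x * y⁻¹) ^ (i ^ n) := by rw [ih, conj_pow]
      _ = x ^ (i ^ (n + 1)) := by rw [h, ← pow_mul, pow_succ']

omit E in
theorem cast_pow_eq_one {x y : A} {s i n : ℕ} (hx : orderOf x = s) (h : y * x * y⁻¹ = x ^ i)
    (hy : y ^ n = 1) : ((i : ZMod s)) ^ n = 1 := by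
  have h' := conj_pow_iterate h n
  rw [hy, one_mul, inv_one, mul_one] at h'
  rw [← Nat.cast_pow, ← Nat.cast_one, ZMod.natCast_eq_natCast_iff, ← hx, ← pow_eq_pow_iff_modEq,
    pow_one]
  exact h'.symm

omit E in
theorem pow_of_cast_eq {x : A} {s i j : ℕ} (hx : orderOf x = s) (h : (i : ZMod s) = (j : ZMod s)) :
    x ^ i = x ^ j := by
  rw [pow_eq_pow_iff_modEq, hx]
  exact (ZMod.natCast_eq_natCast_iff i j s).1 h

/-- An outer element normalising `⟨x⟩` can be corrected to centralise it. -/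
theorem exists_centralizing_of_powers {x : A} (hxS : x ∈ S) {s : ℕ} (hs : s.Prime)
    (hx : orderOf x = s)
    (hconj : ∀ y ∈ S, orderOf y = s → ∃ g ∈ S, g * y * g⁻¹ ∈ zpowers x)
    {w : A} (hw : w ∈ S) {v m : ℕ} (hv : w * x * w⁻¹ = x ^ v)
    (hvm : IsPrimitiveRoot (v : ZMod s) m) [NeZero m]
    (hm : ∀ y : A, y ∉ S → (∃ k : ℕ, y ^ (l ^ k) = 1) → ∀ i : ℕ, y * x * y⁻¹ = x ^ i →
      (i : ZMod s) ^ m = 1) :
    ∃ c, Commute x c ∧ c ∉ S := by
  haveI := Fact.mk hs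
  obtain ⟨a, ha⟩ := E.exists_not_mem
  haveI := E.normal
  obtain ⟨g, hg, hgx⟩ := hconj (a * x * a⁻¹) (E.normal.conj_mem x hxS a)
    (by rw [← MulAut.conj_apply, MulEquiv.orderOf_eq, hx])
  have hb : g * a ∉ S := fun h => ha (by simpa using mul_mem (inv_mem hg) h)
  obtain ⟨i, hi⟩ : ∃ i : ℕ, g * a * x * (g * a)⁻¹ = x ^ i := by
    rw [← mem_powers_iff_mem_zpowers] at hgx
    obtain ⟨i, hi⟩ := hgx
    exact ⟨i, (hi.trans (by group)).symm⟩
  obtain ⟨n, hn, hk⟩ := E.exists_part hb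
  set y := (g * a) ^ n with hy
  have hyi : y * x * y⁻¹ = x ^ (i ^ n) := conj_pow_iterate hi n
  obtain ⟨j, -, hj⟩ := hvm.eq_pow_of_pow_eq_one (hm y hn hk _ hyi)
  refine ⟨(w ^ j)⁻¹ * y, ?_, fun h => hn (by simpa using mul_mem (Subgroup.pow_mem S hw j) h)⟩
  have he : w ^ j * x * (w ^ j)⁻¹ = y * x * y⁻¹ := by
    rw [hyi, conj_pow_iterate hv j]
    exact pow_of_cast_eq hx (by rw [Nat.cast_pow, hj])
  show x * ((w ^ j)⁻¹ * y) = (w ^ j)⁻¹ * y * x
  calc x * ((w ^ j)⁻¹ * y) = (w ^ j)⁻¹ * (w ^ j * x * (w ^ j)⁻¹) * y := by group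
    _ = (w ^ j)⁻¹ * y * x := by rw [he]; group

theorem hasOrd_of_powers {x : A} (hxS : x ∈ S) {s : ℕ} (hs : s.Prime) (hsl : s ≠ l)
    (hx : orderOf x = s)
    (hconj : ∀ y ∈ S, orderOf y = s → ∃ g ∈ S, g * y * g⁻¹ ∈ zpowers x)
    {w : A} (hw : w ∈ S) {v m : ℕ} (hv : w * x * w⁻¹ = x ^ v)
    (hvm : IsPrimitiveRoot (v : ZMod s) m) [NeZero m]
    (hm : ∀ y : A, y ∉ S → (∃ k : ℕ, y ^ (l ^ k) = 1) → ∀ i : ℕ, y * x * y⁻¹ = x ^ i →
      (i : ZMod s) ^ m = 1) : HasOrd A (s * l) := by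
  obtain ⟨c, hc, hcS⟩ := E.exists_centralizing_of_powers hxS hs hx hconj hw hv hvm hm
  exact E.hasOrd_of_outer hs hsl hx hc hcS

/-- No automiser of order `l`: the centraliser is outer. -/
theorem hasOrd_of_coprime {x : A} (hxS : x ∈ S) {s : ℕ} (hs : s.Prime) (hsl : s ≠ l)
    (hx : orderOf x = s)
    (hconj : ∀ y ∈ S, orderOf y = s → ∃ g ∈ S, g * y * g⁻¹ ∈ zpowers x)
    (hdiv : ¬ l ∣ s - 1) : HasOrd A (s * l) := by
  haveI := Fact.mk hs
  refine E.hasOrd_of_powers hxS hs hsl hx hconj (one_mem S) (v := 1) (m := 1) (by simp)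
    (by rw [Nat.cast_one]; exact IsPrimitiveRoot.one) fun y _ hy i hi => ?_
  obtain ⟨k, hk⟩ := hy
  have h1 := cast_pow_eq_one hx hi hk
  have hne : (i : ZMod s) ≠ 0 := fun e => by
    rw [e, zero_pow (pow_pos E.prime.pos k).ne'] at h1
    exact zero_ne_one h1
  rw [pow_one, ← orderOf_eq_one_iff]
  exact Nat.eq_one_of_dvd_coprimes
    (Nat.Coprime.pow_left k ((Nat.Prime.coprime_iff_not_dvd E.prime).2 hdiv))
    (orderOf_dvd_of_pow_eq_one h1) (orderOf_dvd_of_pow_eq_one (ZMod.pow_card_sub_one_eq_one hne))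

/-- An inverted class with `l = 2`. -/
theorem hasOrd_of_inverted {x : A} (hxS : x ∈ S) {s : ℕ} (hs : s.Prime) (hs2 : s ≠ 2)
    (hl : l = 2) (hx : orderOf x = s)
    (hconj : ∀ y ∈ S, orderOf y = s → ∃ g ∈ S, g * y * g⁻¹ ∈ zpowers x)
    {w : A} (hw : w ∈ S) (hv : w * x * w⁻¹ = x⁻¹)
    (hm : (∀ y : A, y ∉ S → (∃ k : ℕ, y ^ (2 ^ k) = 1) → y ^ 2 = 1) ∨ s % 4 = 3) :
    HasOrd A (s * 2) := by
  subst hl
  haveI := Fact.mk hs
  have hs3 : 3 ≤ s := lt_of_le_of_ne hs.two_le (Ne.symm hs2)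
  haveI : Fact (2 < s) := ⟨hs3⟩
  have hxi : x⁻¹ = x ^ (s - 1) := by
    rw [inv_eq_of_mul_eq_one_right]
    rw [← pow_succ', Nat.sub_add_cancel hs.one_le, ← hx, pow_orderOf_eq_one]
  refine E.hasOrd_of_powers hxS hs hs2 hx hconj hw (v := s - 1) (m := 2) (hv.trans hxi) ?_
    fun y hyS hy i hi => ?_
  · rw [Nat.cast_sub hs.one_le, ZMod.natCast_self, zero_sub, Nat.cast_one,
      IsPrimitiveRoot.iff_orderOf, orderOf_neg_one, if_neg]
    rw [ringChar.eq (ZMod s) s]; exact hs2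
  · rcases hm with hm | hm
    · exact cast_pow_eq_one hx hi (hm y hyS hy)
    · obtain ⟨k, hk⟩ := hy
      have h1 := cast_pow_eq_one hx hi hk
      have hne : (i : ZMod s) ≠ 0 := fun e => by
        rw [e, zero_pow (pow_pos two_pos k).ne'] at h1
        exact zero_ne_one h1
      obtain ⟨j, -, hj⟩ := (Nat.dvd_prime_pow Nat.prime_two).1 (orderOf_dvd_of_pow_eq_one h1)
      rw [← orderOf_dvd_iff_pow_eq_one, hj]
      rcases lt_or_ge j 2 with hj2 | hj2
      · exact (pow_dvd_pow 2 (Nat.lt_succ_iff.1 hj2) : 2 ^ j ∣ 2 ^ 1)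
      · exfalso
        have h4 : 4 ∣ s - 1 := ((pow_dvd_pow 2 hj2 : 2 ^ 2 ∣ 2 ^ j).trans (hj ▸
          orderOf_dvd_of_pow_eq_one (ZMod.pow_card_sub_one_eq_one hne)))
        omega

end Ext

end Cfsg.Agent.H76.ThreeOrders
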