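import Cfsg.Agent.H76.ThreeOrders.Radical

/-!
Finite nonsolvable groups in which no prime divides three element orders.
-/

set_option autoImplicit false
set_option linter.style.haveILetI false
set_option linter.unusedSectionVars false

namespace Cfsg.Agent.H76.ThreeOrders

open Subgroup

universe u

section Families

variable {S : Type*} [Group S] [Finite S]

theorem evenPSL_facts (h : Two S) {F : Type} [Field F] [Fintype F] {n : ℕ} (hn2 : 2 ≤ n)
    (hn : Fintype.card F = 2 ^ n) (e : S ≃* Matrix.ProjectiveSpecialLinearGroup (Fin 2) F) :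
    CharP F 2 ∧ 4 ≤ Fintype.card F ∧ (Fintype.card F + 1).primeFactorsList.length ≤ 2 ∧
      (Fintype.card F - 1).primeFactorsList.length ≤ 2 := by
  classical
  have hchar := H62.PU.charP_two F hn
  haveI : Fact (Nat.Prime 2) := ⟨Nat.prime_two⟩
  refine ⟨hchar, hn ▸ le_trans (by norm_num) (Nat.pow_le_pow_right two_pos hn2),
    h.length_le ?_, h.length_le ?_⟩
  · obtain ⟨z, hz⟩ := H70.SpecCN.exists_order_succ_psl hn
    exact HasOrd.of_mulEquiv e.symm ⟨z, hz⟩
  · obtain ⟨-, ⟨y, hy⟩, -⟩ := H55.exists_torus_orders (F := F) 2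
    have hg : Nat.gcd 2 (Fintype.card F - 1) = 1 := by
      rw [← Nat.coprime_iff_gcd_eq_one, Nat.Prime.coprime_iff_not_dvd Nat.prime_two, hn]
      have : 2 ∣ 2 ^ n := dvd_pow_self 2 (by omega)
      have := Nat.one_le_two_pow (n := n)
      omega
    rw [hg, Nat.div_one] at hy
    exact (HasOrd.of_dvd hy).of_mulEquiv e.symm

theorem oddPSL_facts (h : Two S) {F : Type} [Field F] [Fintype F] (hodd : Fintype.card F % 2 = 1)
    (e : S ≃* Matrix.ProjectiveSpecialLinearGroup (Fin 2) F) :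
    ((Fintype.card F + 1) / 2).primeFactorsList.length ≤ 2 ∧
      ((Fintype.card F - 1) / 2).primeFactorsList.length ≤ 2 := by
  classical
  obtain ⟨x, hx⟩ := H70.SpecCN.exists_order_half_psl (F := F) hodd true
  obtain ⟨y, hy⟩ := H70.SpecCN.exists_order_half_psl (F := F) hodd false
  simp only [if_true] at hx
  simp only [Bool.false_eq_true, if_false] at hy
  exact ⟨h.length_le (HasOrd.of_mulEquiv e.symm ⟨x, hx⟩),
    h.length_le (HasOrd.of_mulEquiv e.symm ⟨y, hy⟩)⟩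

theorem even_or_bad (hS : Simples S) :
    IsEvenPSL S ∨ HasOrd S 4 ∨ ∃ r : ℕ, r.Prime ∧ r ≠ 2 ∧ HasOrd S (2 * r) := by
  classical
  rcases hS with h | ⟨F, _, _, h5, hmod, ⟨e⟩⟩ | ⟨F, _, _, h79, ⟨e⟩⟩ | ⟨F, _, _, h4, ⟨e⟩⟩ |
    ⟨F, _, _, m, hm, hF, ⟨e⟩⟩
  · exact Or.inl h
  · refine Or.inr (Or.inr ?_)
    have key : ∀ a : ℕ, HasOrd S (2 * a) → a % 2 = 1 → 1 < a →
        ∃ r : ℕ, r.Prime ∧ r ≠ 2 ∧ HasOrd S (2 * r) := by
      intro a ha hodd h1
      obtain ⟨r, hr, hrd⟩ := Nat.exists_prime_and_dvd h1.ne'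
      refine ⟨r, hr, fun h2 => ?_, ha.dvd (mul_dvd_mul_left 2 hrd)⟩
      rw [h2] at hrd
      omega
    rcases hmod with h3 | h5'
    · obtain ⟨x, hx⟩ := H70.SpecCN.exists_order_half_psl (F := F) (by omega) true
      simp only [if_true] at hx
      exact key ((Fintype.card F + 1) / 4)
        (HasOrd.of_mulEquiv e.symm ⟨x, by omega⟩) (by omega) (by omega)
    · obtain ⟨x, hx⟩ := H70.SpecCN.exists_order_half_psl (F := F) (by omega) false
      simp only [Bool.false_eq_true, if_false] at hx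
      exact key ((Fintype.card F - 1) / 4)
        (HasOrd.of_mulEquiv e.symm ⟨x, by omega⟩) (by omega) (by omega)
  · refine Or.inr (Or.inl (HasOrd.of_mulEquiv e.symm ?_))
    rcases h79 with h7 | h9
    · obtain ⟨x, hx⟩ := H70.SpecCN.exists_order_half_psl (F := F) (by omega) true
      exact ⟨x, by rw [hx, h7]; rfl⟩
    · obtain ⟨x, hx⟩ := H70.SpecCN.exists_order_half_psl (F := F) (by omega) false
      exact ⟨x, by rw [hx, h9]; rfl⟩
  · exact Or.inr (Or.inl ((hasOrd_four_psl_three h4).of_mulEquiv e.symm))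
  · haveI : Suzuki.SzField F m := ⟨hF, hm⟩
    exact Or.inr (Or.inl (HasOrd.of_mulEquiv (e.trans (Suzuki.lieEquiv m).symm).symm
      (OneMixed.suzuki_order_four m)))

theorem suzuki_facts (h : Two S) (hS : Cfsg.Lie.IsoSuzuki S) : ∃ n : ℕ, 1 ≤ n ∧
    Nat.card S = (2 ^ (2 * n + 1)) ^ 2 * ((2 ^ (2 * n + 1)) ^ 2 + 1) * (2 ^ (2 * n + 1) - 1) ∧
    (2 ^ (2 * n + 1) - 1).primeFactorsList.length ≤ 2 ∧
    (2 ^ (2 * n + 1) - 2 ^ (n + 1) + 1).primeFactorsList.length ≤ 2 ∧
    (2 ^ (2 * n + 1) + 2 ^ (n + 1) + 1).primeFactorsList.length ≤ 2 := by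
  classical
  obtain ⟨F, _, _, m, hm, hF, ⟨e⟩⟩ := hS
  haveI : Suzuki.SzField F m := ⟨hF, hm⟩
  have e' : S ≃* Cfsg.Sz F m := e.trans (Suzuki.lieEquiv m).symm
  have key : ∀ k ∈ ({2 ^ (2 * m + 1) - 1, Suzuki.aPlus m, Suzuki.aMinus m} : Finset ℕ),
      k.primeFactorsList.length ≤ 2 := fun k hk => by
    obtain ⟨V, hV, rfl⟩ := Suzuki.exists_part_card (F := F) m hk
    haveI := hV.1
    obtain ⟨g, hg⟩ := IsCyclic.exists_ofOrder_eq_natCard (α := V)
    exact h.length_le (HasOrd.of_mulEquiv e'.symm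
      (HasOrd.of_injective (H := V) V.subtype V.subtype_injective ⟨g, hg⟩))
  refine ⟨m, hm, ?_, key _ (by simp), key _ (by simp [Suzuki.aMinus]),
    key _ (by simp [Suzuki.aPlus])⟩
  rw [Nat.card_congr e'.toEquiv, Suzuki.card_Sz, Suzuki.card_nat (F := F) m]
  ring

end Families

/-- The classification. -/
theorem main {G : Type u} [Group G] [Finite G] (h : Two G) (hns : ¬ Group.IsSolvable G) :
    ∃ R : Subgroup G, ∃ _ : R.Normal, R = Cfsg.pCore 2 G ∧ IsSimpleGroup (G ⧸ R) ∧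
      Simples (G ⧸ R) ∧ (R = ⊥ ∨ IsEvenPSL (G ⧸ R)) := by
  classical
  haveI : Fact (Nat.Prime 2) := ⟨Nat.prime_two⟩
  obtain ⟨R, hR, hRs, hmax⟩ := exists_radical G
  haveI := hR
  have hnsB := not_solvable_quotient hRs hns
  have hB := h.quotient R
  haveI : IsSimpleGroup (G ⧸ R) :=
    isSimple_of_radical hB hnsB fun N hN hNs => radical_quotient hRs hmax hN hNs
  have hS : Simples (G ⧸ R) := simples
    (fun hc => hnsB (Group.isSolvable_of_comm fun a b => hc.is_comm.comm a b)) hB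
  refine ⟨R, hR, ?_⟩
  by_cases hmix : ∃ r : ℕ, r.Prime ∧ r ≠ 2 ∧ HasOrd G (2 * r)
  · obtain ⟨r, hr, hr2, hm⟩ := hmix
    have hbot := radical_eq_bot_of_mixed h hns hr hr2 hm hRs (kind_of_simples hB hS).1
    have hUs : Group.IsSolvable (Cfsg.pCore 2 G) := by
      haveI := (Cores.pCore_isPGroup (p := 2) (G := G)).isNilpotent
      infer_instance
    have hle := hmax _ inferInstance hUs
    exact ⟨le_antisymm (hbot ▸ bot_le) hle, inferInstance, hS, Or.inl hbot⟩
  · have hC : NoMixed G := fun r hr hr2 hm => hmix ⟨r, hr, hr2, hm⟩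
    have hRU := radical_eq_pCore h hns hC hRs hmax
    refine ⟨hRU, inferInstance, hS, ?_⟩
    by_cases hbot : R = ⊥
    · exact Or.inl hbot
    refine Or.inr ((even_or_bad hS).resolve_right ?_)
    rintro (h4 | ⟨r, hr, hr2, hm⟩)
    · subst hRU
      exact no_order_four h hns hC hbot h4
    · exact hC.quotient R r hr hr2 hm

end Cfsg.Agent.H76.ThreeOrders
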