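import Cfsg.Agent.H76.ThreeOrders.Frattini
import Cfsg.Agent.H68.SylowCentralizer
import Cfsg.Agent.H39.Basic

/-!
No extension of degree two of a simple group of order 360.
-/

set_option autoImplicit false
set_option linter.style.haveILetI false
set_option linter.unusedSectionVars false

namespace Cfsg.Agent.H76.ThreeOrders

open Subgroup

/-- A fixed point free involution inverts an invariant subgroup. -/
theorem inverts_of_free {A : Type*} [Group A] [Finite A] {P : Subgroup A} {z : A} (hz : z * z = 1)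
    (hn : ∀ a ∈ P, z * a * z⁻¹ ∈ P) (hfree : ∀ a ∈ P, Commute z a → a = 1) :
    ∀ a ∈ P, z * a * z⁻¹ = a⁻¹ := by
  have hzi : z⁻¹ = z := inv_eq_of_mul_eq_one_right hz
  let f : P → P := fun a => ⟨(a : A)⁻¹ * (z * a * z⁻¹), mul_mem (inv_mem a.2) (hn a a.2)⟩
  have hinj : Function.Injective f := by
    intro a b h
    have h' : (a : A)⁻¹ * (z * a * z⁻¹) = (b : A)⁻¹ * (z * b * z⁻¹) := congrArg Subtype.val h
    have hc : Commute z ((b : A) * (a : A)⁻¹) := by
      refine mul_inv_eq_iff_eq_mul.1 ?_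
      calc z * ((b : A) * (a : A)⁻¹) * z⁻¹ = (z * b * z⁻¹) * (z * a * z⁻¹)⁻¹ := by group
        _ = (b : A) * ((b : A)⁻¹ * (z * b * z⁻¹)) * (z * a * z⁻¹)⁻¹ := by group
        _ = (b : A) * (a : A)⁻¹ := by rw [← h']; group
    exact Subtype.ext (mul_inv_eq_one.1 (hfree _ (mul_mem b.2 (inv_mem a.2)) hc)).symm
  intro y hy
  obtain ⟨a, ha⟩ := (Finite.injective_iff_surjective.1 hinj) ⟨y, hy⟩
  have ha' : (a : A)⁻¹ * (z * a * z⁻¹) = y := congrArg Subtype.val ha
  rw [← ha']
  calc z * ((a : A)⁻¹ * (z * a * z⁻¹)) * z⁻¹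
      = z * (a : A)⁻¹ * z * a * (z⁻¹ * z⁻¹) := by group
    _ = (z * a * z⁻¹)⁻¹ * a := by
        rw [hzi, hz, mul_one, mul_inv_rev, mul_inv_rev, hzi]; group
    _ = _ := by group

section Simple

variable {S : Type*} [Group S] [Finite S] [IsSimpleGroup S] (hS : Nat.card S = 360)

include hS

theorem not_comm_360 : ¬ IsMulCommutative S := fun h => by
  have := (Group.is_simple_iff_prime_card (α := S)).1 inferInstance
  rw [hS] at this
  norm_num at this

theorem sylow_three_facts (P : Sylow 3 S) :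
    Nat.card (P : Subgroup S) = 9 ∧ Nat.card (normalizer ((P : Subgroup S) : Set S)) = 36 := by
  classical
  haveI : Fact (Nat.Prime 3) := ⟨Nat.prime_three⟩
  have hP : Nat.card (P : Subgroup S) = 9 := by
    rw [P.card_eq_multiplicity, hS, show 360 = 3 ^ 2 * 40 by norm_num,
      Nat.factorization_mul (by norm_num) (by norm_num), Finsupp.add_apply,
      Nat.prime_three.factorization_pow, Finsupp.single_eq_same,
      Nat.factorization_eq_zero_of_not_dvd (by norm_num : ¬ 3 ∣ 40)]
    norm_num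
  refine ⟨hP, ?_⟩
  have hidx : (P : Subgroup S).index = 40 := by
    have := (P : Subgroup S).card_mul_index
    rw [hP, hS] at this; omega
  have h1 : Nat.card (Sylow 3 S) ≡ 1 [MOD 3] := card_sylow_modEq_one 3 S
  have h2 : Nat.card (Sylow 3 S) ∣ 40 := hidx ▸ P.card_dvd_index
  have hN := (normalizer ((P : Subgroup S) : Set S)).card_mul_index
  rw [show (normalizer ((P : Subgroup S) : Set S)).index = Nat.card (Sylow 3 S) from
    (Sylow.card_eq_index_normalizer P).symm, hS] at hN
  have n1 : Nat.card (Sylow 3 S) ≠ 1 := fun h => by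
    haveI := (Nat.card_eq_one_iff_unique.1 h).1
    rcases (P.normal_of_subsingleton).eq_bot_or_eq_top with e | e <;> rw [e] at hP
    · simp at hP
    · rw [Subgroup.card_top, hS] at hP; omega
  have n4 : Nat.card (Sylow 3 S) ≠ 4 := fun h => by
    rcases (inferInstance : (MulAction.toPermHom S (Sylow 3 S)).ker.Normal).eq_bot_or_eq_top with
      e | e
    · have hinj := (MonoidHom.ker_eq_bot_iff _).1 e
      have hle := Nat.card_le_card_of_injective _ hinj
      rw [hS, Nat.card_perm, h] at hle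
      norm_num [Nat.factorial] at hle
    · refine n1 (Nat.card_eq_one_iff_unique.2 ⟨⟨fun Q R => ?_⟩, ⟨P⟩⟩)
      obtain ⟨g, rfl⟩ := MulAction.exists_smul_eq S Q R
      have hg : g ∈ (MulAction.toPermHom S (Sylow 3 S)).ker := e ▸ mem_top g
      exact (Equiv.Perm.congr_fun (MonoidHom.mem_ker.1 hg) Q).symm
  have n40 : Nat.card (Sylow 3 S) ≠ 40 := fun h => by
    rw [h] at hN
    have hN9 : Nat.card (normalizer ((P : Subgroup S) : Set S)) = 9 := by omega
    refine H68.burnside_not_abelian (not_comm_360 hS) P (by rw [hS]; norm_num) fun n hn => ?_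
    have hle : normalizer ((P : Subgroup S) : Set S) = (P : Subgroup S) :=
      (eq_of_le_of_card_ge le_normalizer (by rw [hN9, hP])).symm
    rw [hle] at hn
    refine mem_centralizer_iff.2 fun x hx => ?_
    have := IsPGroup.commutative_of_card_eq_prime_sq (p := 3) (G := (P : Subgroup S))
      (by rw [hP]; norm_num) ⟨x, hx⟩ ⟨n, hn⟩
    exact congrArg Subtype.val this
  have := Nat.le_of_dvd (by norm_num) h2
  unfold Nat.ModEq at h1
  interval_cases hcv : Nat.card (Sylow 3 S) <;> omega

theorem sylow_five_even (P : Sylow 5 S) :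
    Nat.card (P : Subgroup S) = 5 ∧ 2 ∣ Nat.card (normalizer ((P : Subgroup S) : Set S)) := by
  classical
  haveI : Fact (Nat.Prime 5) := ⟨Nat.prime_five⟩
  have hP : Nat.card (P : Subgroup S) = 5 := by
    rw [P.card_eq_multiplicity, hS, show 360 = 5 * 72 by norm_num,
      Nat.factorization_mul (by norm_num) (by norm_num), Finsupp.add_apply,
      Nat.prime_five.factorization, Finsupp.single_eq_same,
      Nat.factorization_eq_zero_of_not_dvd (by norm_num : ¬ 5 ∣ 72)]
    norm_num
  refine ⟨hP, ?_⟩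
  have hidx : (P : Subgroup S).index = 72 := by
    have := (P : Subgroup S).card_mul_index
    rw [hP, hS] at this; omega
  have h1 : Nat.card (Sylow 5 S) ≡ 1 [MOD 5] := card_sylow_modEq_one 5 S
  have h2 : Nat.card (Sylow 5 S) ∣ 72 := hidx ▸ P.card_dvd_index
  have hN := (normalizer ((P : Subgroup S) : Set S)).card_mul_index
  rw [show (normalizer ((P : Subgroup S) : Set S)).index = Nat.card (Sylow 5 S) from
    (Sylow.card_eq_index_normalizer P).symm, hS] at hN
  have := Nat.le_of_dvd (by norm_num) h2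
  unfold Nat.ModEq at h1
  interval_cases hcv : Nat.card (Sylow 5 S) <;> omega

end Simple

variable {A : Type*} [Group A] [Finite A] {S : Subgroup A}

/-- In `A`, with no elements of orders `6` and `10`, every element of order 3 or 5 of `S` is inverted
by an element of `S`. -/
theorem exists_inverter_360 [IsSimpleGroup S] (hS : Nat.card S = 360)
    (hC : ∀ s : ℕ, s.Prime → s ≠ 2 → ¬ HasOrd A (2 * s)) {s : ℕ} (hs : s = 3 ∨ s = 5) {k : A}
    (hk : k ∈ S) (hko : orderOf k = s) : ∃ w ∈ S, w * k * w⁻¹ = k⁻¹ := by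
  classical
  have hsp : s.Prime := by rcases hs with rfl | rfl <;> norm_num
  have hs2 : s ≠ 2 := by omega
  haveI := Fact.mk hsp
  haveI : Fact (Nat.Prime 2) := ⟨Nat.prime_two⟩
  obtain ⟨P, hP⟩ := (IsPGroup.of_card (p := s) (n := 1)
    (show Nat.card (zpowers (⟨k, hk⟩ : S)) = s ^ 1 by
      rw [Nat.card_zpowers, orderOf_mk, hko, pow_one])).exists_le_sylow
  have hN2 : 2 ∣ Nat.card (normalizer ((P : Subgroup S) : Set S)) := by
    rcases hs with rfl | rfl
    · rw [(sylow_three_facts hS P).2]; norm_num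
    · exact (sylow_five_even hS P).2
  obtain ⟨⟨z, hz⟩, hzo⟩ := hasOrd_prime (G := normalizer ((P : Subgroup S) : Set S)) Nat.prime_two hN2
  rw [orderOf_mk] at hzo
  have hzz : z * z = 1 := by have := pow_orderOf_eq_one z; rwa [hzo, pow_two] at this
  refine ⟨z, z.2, ?_⟩
  have h := inverts_of_free hzz (fun a ha => (mem_normalizer_iff.1 hz a).1 ha)
    (fun a ha hc => ?_) ⟨k, hk⟩ (hP (mem_zpowers _))
  · exact congrArg Subtype.val h
  · by_contra ha1
    obtain ⟨j, hj⟩ := IsPGroup.iff_orderOf.1 P.isPGroup' ⟨a, ha⟩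
    rw [orderOf_mk] at hj
    have hj0 : j ≠ 0 := fun e => ha1 (orderOf_eq_one_iff.1 (by rw [hj, e, pow_zero]))
    exact hC s hsp hs2 ((hasOrd_prime_mul (G := S) Nat.prime_two hsp hs2.symm hzo
      (hj ▸ dvd_pow_self s hj0) hc).of_injective S.subtype S.subtype_injective)

/-- There is no extension of degree two of a simple group of order 360 with a self-centralising
behaviour at the involutions and the odd elements. -/
theorem no_ext_360 (h : Two A) (E : Ext S 2) [IsSimpleGroup S] (hS : Nat.card S = 360)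
    (hC : ∀ s : ℕ, s.Prime → s ≠ 2 → ¬ HasOrd A (2 * s)) : False := by
  classical
  haveI := E.normal
  haveI : Fact (Nat.Prime 2) := ⟨Nat.prime_two⟩
  haveI : Fact (Nat.Prime 3) := ⟨Nat.prime_three⟩
  have hna := not_comm_360 hS
  have hns : ¬ Group.IsSolvable S := fun hs =>
    hna ⟨⟨fun a b => IsSimpleGroup.comm_iff_isSolvable.mpr hs a b⟩⟩
  have hsq : ∀ a : A, a * a ∈ S := fun a => by rw [← pow_two]; exact E.pow_mem a
  have hmul : ∀ {a b : A}, a ∉ S → b ∉ S → a * b ∈ S := fun {a b} ha hb =>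
    (Subgroup.mul_mem_iff_of_index_two E.index).2 (iff_of_false ha hb)
  have hcardA : Nat.card A = 720 := by
    have := S.card_mul_index
    rw [hS, E.index] at this; omega
  -- no outer involution
  have hout : ∀ u : A, u ∉ S → u * u ≠ 1 := by
    intro u huS hu
    have hu1 : u ≠ 1 := fun e => huS (e ▸ one_mem S)
    have huo : orderOf u = 2 := orderOf_eq_prime (by rw [pow_two, hu]) hu1
    obtain ⟨g, k, hk1, hkodd, hinv, hkz⟩ := exists_inverted huo fun N hN hNp huN => by
      have hbot : N ⊓ S = ⊥ := by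
        haveI := hN
        rcases (inferInstance : ((N ⊓ S).subgroupOf S).Normal).eq_bot_or_eq_top with e | e
        · rw [subgroupOf_eq_bot, disjoint_iff] at e
          rwa [inf_assoc, inf_idem] at e
        · exfalso
          rw [subgroupOf_eq_top] at e
          have hSp : IsPGroup 2 S := hNp.to_le (e.trans inf_le_left)
          obtain ⟨j, hj⟩ := IsPGroup.iff_card.1 hSp
          rw [hS] at hj
          have : 3 ∣ 2 ^ j := hj ▸ (by norm_num)
          have := (Nat.prime_dvd_prime_iff_eq Nat.prime_three Nat.prime_two).1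
            (Nat.prime_three.dvd_of_dvd_pow this)
          omega
      refine hu1 (h.centralizer_eq_one hns (mem_centralizer_iff.2 fun x hx => ?_))
      have hm : x * u * x⁻¹ * u⁻¹ ∈ N ⊓ S := mem_inf.2
        ⟨mul_mem (hN.conj_mem u huN x) (inv_mem huN), by
          rw [show x * u * x⁻¹ * u⁻¹ = x * (u * x⁻¹ * u⁻¹) by group]
          exact mul_mem hx (E.normal.conj_mem _ (inv_mem hx) u)⟩
      rw [hbot, mem_bot, mul_inv_eq_one, mul_inv_eq_iff_eq_mul] at hm
      exact hm
    have hkS : k ∈ S := (zpowers_le.2 (hmul huS fun hh => huS (by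
      simpa [mul_assoc] using E.normal.conj_mem _ hh g⁻¹))) hkz
    obtain ⟨s, hs, hsd⟩ := Nat.exists_prime_and_dvd hk1
    set k' := k ^ (orderOf k / s) with hk'
    have hk'o : orderOf k' = s := orderOf_pow_orderOf_div (orderOf_pos k).ne' hsd
    have hk'S : k' ∈ S := Subgroup.pow_mem S hkS _
    have hs2 : s ≠ 2 := fun e => Nat.not_even_iff_odd.2 hkodd (even_iff_two_dvd.2 (e ▸ hsd))
    have hs35 : s = 3 ∨ s = 5 := by
      have hd : s ∣ 360 := hS ▸ hk'o ▸ orderOf_dvd_natCard S hk'S
      have := hs.two_le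
      have : s ∣ 2 ^ 3 * (3 ^ 2 * 5) := by simpa using hd
      rcases hs.dvd_mul.1 this with e | e
      · exact absurd ((Nat.prime_dvd_prime_iff_eq hs Nat.prime_two).1 (hs.dvd_of_dvd_pow e)) hs2
      · rcases hs.dvd_mul.1 e with e | e
        · exact Or.inl ((Nat.prime_dvd_prime_iff_eq hs Nat.prime_three).1 (hs.dvd_of_dvd_pow e))
        · exact Or.inr ((Nat.prime_dvd_prime_iff_eq hs Nat.prime_five).1 e)
    obtain ⟨w, hwS, hw⟩ := exists_inverter_360 hS hC hs35 hk'S hk'o
    have hu' : u * k' * u⁻¹ = k'⁻¹ := by rw [hk', ← conj_pow, hinv, inv_pow]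
    have hc : Commute k' (w⁻¹ * u) := by
      show k' * (w⁻¹ * u) = w⁻¹ * u * k'
      calc k' * (w⁻¹ * u) = w⁻¹ * ((w * k' * w⁻¹) * u) := by group
        _ = w⁻¹ * ((u * k' * u⁻¹) * u) := by rw [hw, hu']
        _ = w⁻¹ * u * k' := by group
    refine hC s hs hs2 ?_
    rw [mul_comm]
    exact E.hasOrd_of_outer hs hs2 hk'o hc fun hh => huS (by simpa using mul_mem hwS hh)
  -- the normaliser of a Sylow 3-subgroup
  obtain ⟨P⟩ : Nonempty (Sylow 3 S) := inferInstance
  obtain ⟨hP9, -⟩ := sylow_three_facts hS P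
  set P' := (P : Subgroup S).map S.subtype with hP'
  have hP'S : P' ≤ S := map_subtype_le _
  have hP'p : IsPGroup 3 P' := P.isPGroup'.map _
  set N := normalizer (P' : Set A) with hN
  obtain ⟨y, hyN, hyS, j, hy⟩ : ∃ y ∈ N, y ∉ S ∧ ∃ j : ℕ, y ^ (2 ^ j) = 1 := by
    obtain ⟨b, hb, hbS⟩ : ∃ b ∈ N, b ∉ S := by
      by_contra! hle
      have htop : S = ⊤ := by
        have := Sylow.normalizer_sup_eq_top P
        exact top_le_iff.1 (this.ge.trans (sup_le hle le_rfl))
      have := E.index
      rw [htop, index_top] at this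
      omega
    obtain ⟨m, hm, hk⟩ := E.exists_part hbS
    exact ⟨b ^ m, Subgroup.pow_mem N hb m, hm, hk⟩
  have hcN : Nat.card N = 72 := by
    have h36 := (sylow_three_facts hS P).2
    have hle : N ⊓ S = (normalizer ((P : Subgroup S) : Set S)).map S.subtype := by
      ext x
      constructor
      · rintro ⟨hx1, hx2⟩
        refine ⟨⟨x, hx2⟩, H39.mem_normalizer_of_conj_mem fun a ha => ?_, rfl⟩
        obtain ⟨c, hc, hce⟩ := (mem_normalizer_iff.1 hx1 (a : A)).1 ⟨a, ha, rfl⟩
        have e : c = (⟨x, hx2⟩ : S) * a * (⟨x, hx2⟩ : S)⁻¹ := Subtype.ext hce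
        exact e ▸ hc
      · rintro ⟨⟨x, hxS⟩, hx, rfl⟩
        refine ⟨H39.mem_normalizer_of_conj_mem ?_, hxS⟩
        rintro _ ⟨a, ha, rfl⟩
        exact ⟨_, (mem_normalizer_iff.1 hx a).1 ha, rfl⟩
    have h1 : Nat.card ↥(N ⊓ S) = 36 := by
      rw [hle, card_map_of_injective S.subtype_injective, h36]
    have h2 : (S.subgroupOf N).index = 2 := by
      rw [Subgroup.index_eq_two_iff]
      refine ⟨⟨y, hyN⟩, fun b => ?_⟩
      simp only [mem_subgroupOf, Subgroup.coe_mul]
      by_cases hb : (b : A) ∈ S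
      · exact Or.inr ⟨hb, fun hh => hyS (by simpa using mul_mem (inv_mem hb) hh)⟩
      · exact Or.inl ⟨hmul hb hyS, hb⟩
    have h3 := (S.subgroupOf N).card_mul_index
    rw [h2, ← card_map_of_injective N.subtype_injective, subgroupOf_map_subtype, inf_comm, h1] at h3
    omega
  have hsylcard : ∀ (H : Subgroup A) (T : Sylow 2 H), ∀ n m : ℕ, Nat.card H = 2 ^ n * m → ¬ 2 ∣ m →
      Nat.card ((T : Subgroup H).map H.subtype) = 2 ^ n := fun H T n m hc hm => by
    rw [card_map_of_injective H.subtype_injective, T.card_eq_multiplicity, hc,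
      Nat.factorization_mul (by positivity) (fun e => hm (by rw [e]; exact dvd_zero 2)), Finsupp.add_apply,
      Nat.prime_two.factorization_pow, Finsupp.single_eq_same,
      Nat.factorization_eq_zero_of_not_dvd hm, add_zero]
  obtain ⟨R, hR⟩ := (IsPGroup.of_card (p := 2) (n := ((orderOf y).factorization 2))
    (show Nat.card (zpowers (⟨y, hyN⟩ : N)) = 2 ^ (orderOf y).factorization 2 by
      obtain ⟨i, -, hi⟩ := (Nat.dvd_prime_pow Nat.prime_two).1 (orderOf_dvd_of_pow_eq_one hy)
      rw [Nat.card_zpowers, orderOf_mk, hi, Nat.prime_two.factorization_pow,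
        Finsupp.single_eq_same])).exists_le_sylow
  set R' := (R : Subgroup N).map N.subtype with hR'
  have hR'N : R' ≤ N := map_subtype_le _
  have hyR : y ∈ R' := ⟨⟨y, hyN⟩, hR (mem_zpowers _), rfl⟩
  have hR8 : Nat.card R' = 8 := by
    rw [hsylcard N R 3 9 (by rw [hcN]; norm_num) (by norm_num)]; norm_num
  have hR'p : IsPGroup 2 R' := R.isPGroup'.map _
  obtain ⟨T', hRT⟩ := hR'p.exists_le_sylow
  -- a unique involution
  have hfree : ∀ z ∈ R', z * z = 1 → z ≠ 1 → ∀ a ∈ P', z * a * z⁻¹ = a⁻¹ := by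
    intro z hz hzz hz1
    refine inverts_of_free hzz (fun a ha => (mem_normalizer_iff.1 (hR'N hz) a).1 ha)
      fun a ha hc => ?_
    by_contra ha1
    obtain ⟨i, hi⟩ := IsPGroup.iff_orderOf.1 hP'p ⟨a, ha⟩
    rw [orderOf_mk] at hi
    have hi0 : i ≠ 0 := fun e => ha1 (orderOf_eq_one_iff.1 (by rw [hi, e, pow_zero]))
    exact hC 3 Nat.prime_three (by norm_num) (hasOrd_prime_mul Nat.prime_two Nat.prime_three
      (by norm_num) (orderOf_eq_prime (by rw [pow_two, hzz]) hz1) (hi ▸ dvd_pow_self 3 hi0) hc)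
  have huniq : ∀ z ∈ R', ∀ z' ∈ R', z * z = 1 → z ≠ 1 → z' * z' = 1 → z' ≠ 1 → z = z' := by
    intro z hz z' hz' hzz hz1 hzz' hz1'
    by_contra hne
    obtain ⟨⟨a, ha⟩, hao⟩ := hasOrd_prime (G := P') Nat.prime_three
      (by rw [hP', card_map_of_injective S.subtype_injective, hP9]; norm_num)
    rw [orderOf_mk] at hao
    have hc : Commute a (z * z') := by
      refine (mul_inv_eq_iff_eq_mul.1 ?_ : z * z' * a = a * (z * z')).symm
      calc z * z' * a * (z * z')⁻¹ = z * (z' * a * z'⁻¹) * z⁻¹ := by group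
        _ = a := by rw [hfree z' hz' hzz' hz1' a ha, hfree z hz hzz hz1 a⁻¹ (inv_mem ha), inv_inv]
    have hne' : z * z' ≠ 1 := fun e => hne ((eq_inv_of_mul_eq_one_left e).trans
      (inv_eq_of_mul_eq_one_right hzz'))
    obtain ⟨i, hi⟩ := IsPGroup.iff_orderOf.1 hR'p ⟨z * z', mul_mem hz hz'⟩
    rw [orderOf_mk] at hi
    have hi0 : i ≠ 0 := fun e => hne' (orderOf_eq_one_iff.1 (by rw [hi, e, pow_zero]))
    refine hC 3 Nat.prime_three (by norm_num) ?_
    rw [mul_comm]
    exact hasOrd_prime_mul Nat.prime_three Nat.prime_two (by norm_num) hao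
      (hi ▸ dvd_pow_self 2 hi0) hc
  have h4 : ∀ a ∈ (T' : Subgroup A), (a * a) * (a * a) = 1 := fun a ha => by
    obtain ⟨i, hi⟩ := T'.isPGroup' ⟨a, ha⟩
    rw [← pow_two, ← pow_two, ← pow_mul]
    exact h.pow_four_eq_one ⟨i, congrArg Subtype.val hi⟩
  set z := y * y with hz
  have hz1 : z ≠ 1 := hout y hyS
  have hzR : z ∈ R' := mul_mem hyR hyR
  have hzz : z * z = 1 := h4 y (hRT hyR)
  -- an inner element of order four
  obtain ⟨x, hxR, hxS, hx2⟩ : ∃ x ∈ R', x ∈ S ∧ x * x = z := by
    have hidx : (S.subgroupOf R').index = 2 := by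
      rw [Subgroup.index_eq_two_iff]
      refine ⟨⟨y, hyR⟩, fun b => ?_⟩
      simp only [mem_subgroupOf, Subgroup.coe_mul]
      by_cases hb : (b : A) ∈ S
      · exact Or.inr ⟨hb, fun hh => hyS (by simpa using mul_mem (inv_mem hb) hh)⟩
      · exact Or.inl ⟨hmul hb hyS, hb⟩
    have hc := (S.subgroupOf R').card_mul_index
    rw [hidx, hR8] at hc
    obtain ⟨⟨⟨x, hxR⟩, hxS⟩, hx⟩ : ∃ x : ↥(S.subgroupOf R'), (x : A) ∉ ({1, z} : Set A) := by
      by_contra! hall
      let f : ↥(S.subgroupOf R') → ↥({1, z} : Set A) := fun x => ⟨(x : A), hall x⟩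
      have hinj : Function.Injective f := fun p q e =>
        Subtype.ext (Subtype.ext (by simpa [f] using e))
      have := Nat.card_le_card_of_injective f hinj
      rw [Nat.card_coe_set_eq, Set.ncard_pair (Ne.symm hz1)] at this
      omega
    simp only [Set.mem_insert_iff, Set.mem_singleton_iff, not_or] at hx
    refine ⟨x, hxR, hxS, ?_⟩
    have hx1 : x * x ≠ 1 := fun e => hx.2 (huniq x hxR z hzR e hx.1 hzz hz1)
    exact huniq _ (mul_mem hxR hxR) z hzR (h4 x (hRT hxR)) hx1 hzz hz1
  have hxne : x ≠ 1 := fun e => hz1 (by rw [← hx2, e, mul_one])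
  have hxx : x ≠ z := fun e => hz1 (by rw [← hx2, e, hzz])
  have hx3 : x⁻¹ = x * z := inv_eq_of_mul_eq_one_right (by rw [← mul_assoc, hx2, hzz])
  -- `y` inverts `x`
  have hsub4 : ∀ a ∈ R', a ∈ S → a = 1 ∨ a = z ∨ a = x ∨ a = x⁻¹ := by
    intro a haR haS
    by_contra! hne
    have hcard := (S.subgroupOf R').card_mul_index
    have hsub : ({1, z, x, x⁻¹, a} : Set A) ⊆ ((R' ⊓ S : Subgroup A) : Set A) := by
      rintro b (rfl | rfl | rfl | rfl | rfl)
      exacts [one_mem _, ⟨hzR, hsq y⟩, ⟨hxR, hxS⟩, inv_mem (show x ∈ R' ⊓ S from ⟨hxR, hxS⟩),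
        ⟨haR, haS⟩]
    have hxi1 : (1 : A) ≠ x⁻¹ := fun e => hxne (inv_eq_one.1 e.symm)
    have hxiz : z ≠ x⁻¹ := fun e => hxx (by
      rw [eq_comm, inv_eq_iff_eq_inv, inv_eq_of_mul_eq_one_right hzz] at e; exact e)
    have hxix : x ≠ x⁻¹ := fun e => hz1 (by
      rw [← hx2]; exact mul_eq_one_iff_eq_inv.2 e)
    have h5 : ({1, z, x, x⁻¹, a} : Set A).ncard = 5 := by
      rw [Set.ncard_insert_of_notMem (by simp [Ne.symm hz1, Ne.symm hxne, hxi1, Ne.symm hne.1]),
        Set.ncard_insert_of_notMem (by simp [Ne.symm hxx, hxiz, Ne.symm hne.2.1]),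
        Set.ncard_insert_of_notMem (by simp [hxix, Ne.symm hne.2.2.1]),
        Set.ncard_pair (Ne.symm hne.2.2.2)]
    have h6 := Set.ncard_le_ncard hsub (Set.toFinite _)
    rw [h5, ← Nat.card_coe_set_eq] at h6
    simp only [SetLike.coe_sort_coe] at h6
    have h7 : Nat.card ↥(R' ⊓ S) = Nat.card ↥(S.subgroupOf R') := by
      rw [← card_map_of_injective R'.subtype_injective, subgroupOf_map_subtype, inf_comm]
    have hidx : 2 ≤ (S.subgroupOf R').index := by
      by_contra! hlt
      have h1 : (S.subgroupOf R').index = 1 := by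
        have := index_ne_zero_of_finite (H := S.subgroupOf R')
        omega
      exact hyS (subgroupOf_eq_top.1 (index_eq_one.1 h1) hyR)
    rw [h7] at h6
    rw [hR8] at hcard
    nlinarith
  have hyx : y * x * y⁻¹ = x⁻¹ := by
    rcases hsub4 _ (mul_mem (mul_mem hyR hxR) (inv_mem hyR)) (E.normal.conj_mem x hxS y) with
      e | e | e | e
    · exact absurd (conj_eq_one_iff.1 e) hxne
    · exfalso
      refine hxx ?_
      calc x = y⁻¹ * (y * x * y⁻¹) * y := by group
        _ = z := by rw [e, hz]; group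
    · exfalso
      have hc : Commute y x := mul_inv_eq_iff_eq_mul.1 e
      exact hout (y * x) (fun hh => hyS (by simpa using mul_mem hh (inv_mem hxS)))
        (by rw [← pow_two, hc.mul_pow, pow_two, pow_two, ← hz, hx2, hzz])
    · exact e
  -- the Sylow subgroup of `A`
  have hT16 : Nat.card (T' : Subgroup A) = 16 := by
    rw [T'.card_eq_multiplicity, hcardA, show 720 = 2 ^ 4 * 45 by norm_num,
      Nat.factorization_mul (by norm_num) (by norm_num), Finsupp.add_apply,
      Nat.prime_two.factorization_pow, Finsupp.single_eq_same,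
      Nat.factorization_eq_zero_of_not_dvd (by norm_num : ¬ 2 ∣ 45)]
    norm_num
  set T := (T' : Subgroup A) ⊓ S with hT
  have hT8 : Nat.card T = 8 := by
    have hidx : (S.subgroupOf (T' : Subgroup A)).index = 2 := by
      rw [Subgroup.index_eq_two_iff]
      refine ⟨⟨y, hRT hyR⟩, fun b => ?_⟩
      simp only [mem_subgroupOf, Subgroup.coe_mul]
      by_cases hb : (b : A) ∈ S
      · exact Or.inr ⟨hb, fun hh => hyS (by simpa using mul_mem (inv_mem hb) hh)⟩
      · exact Or.inl ⟨hmul hb hyS, hb⟩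
    have hc := (S.subgroupOf (T' : Subgroup A)).card_mul_index
    rw [hidx, hT16, ← card_map_of_injective (T' : Subgroup A).subtype_injective,
      subgroupOf_map_subtype, inf_comm] at hc
    rw [hT]; omega
  have hxT : x ∈ T := ⟨hRT hxR, hxS⟩
  have hxo : orderOf x = 4 := by
    refine orderOf_eq_prime_pow (p := 2) (n := 1) ?_ ?_
    · rw [pow_one, pow_two, hx2]; exact hz1
    · rw [show 2 ^ (1 + 1) = 2 * 2 by norm_num, pow_mul, pow_two, pow_two, hx2, hzz]
  have hidxX : ((zpowers x).subgroupOf T).index = 2 := by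
    have hc := ((zpowers x).subgroupOf T).card_mul_index
    rw [Nat.card_congr (subgroupOfEquivOfLe (zpowers_le.2 hxT)).toEquiv, Nat.card_zpowers, hxo,
      hT8] at hc
    omega
  obtain ⟨d, hdT, hdX⟩ : ∃ d ∈ T, d ∉ zpowers x := by
    by_contra! hle
    have h1 := subgroupOf_eq_top.2 hle
    rw [h1, index_top] at hidxX
    omega
  have hxmem : ∀ a ∈ zpowers x, a = 1 ∨ a = z ∨ a = x ∨ a = x⁻¹ := fun a ha =>
    hsub4 a ((zpowers_le.2 hxR) ha) ((zpowers_le.2 hxS) ha)
  have hTX : ∀ a ∈ T, a ∈ zpowers x ∨ ∃ b ∈ zpowers x, a = b * d := fun a ha => by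
    by_cases haX : a ∈ zpowers x
    · exact Or.inl haX
    refine Or.inr ⟨a * d⁻¹, ?_, by group⟩
    have := (Subgroup.mul_mem_iff_of_index_two hidxX (a := ⟨a, ha⟩) (b := ⟨d⁻¹, inv_mem hdT⟩)).2
      (by simp [mem_subgroupOf, haX, hdX])
    exact mem_subgroupOf.1 this
  haveI hXn : ((zpowers x).subgroupOf T).Normal := normal_of_index_eq_two hidxX
  have hdx : d * x * d⁻¹ = x⁻¹ := by
    have hm : d * x * d⁻¹ ∈ zpowers x :=
      mem_subgroupOf.1 (hXn.conj_mem ⟨x, hxT⟩ (mem_subgroupOf.2 (mem_zpowers x)) ⟨d, hdT⟩)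
    rcases hxmem _ hm with e | e | e | e
    · exact absurd (conj_eq_one_iff.1 e) hxne
    · exfalso
      have e2 : d * z * d⁻¹ = 1 := by
        calc d * z * d⁻¹ = d * (x * x) * d⁻¹ := by rw [hx2]
          _ = (d * x * d⁻¹) * (d * x * d⁻¹) := by group
          _ = 1 := by rw [e, hzz]
      exact hz1 (conj_eq_one_iff.1 e2)
    · -- an abelian Sylow subgroup
      exfalso
      have hdc : Commute d x := mul_inv_eq_iff_eq_mul.1 e
      have hXc : ∀ a ∈ zpowers x, ∀ b ∈ zpowers x, a * b = b * a := fun a ha b hb => by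
        obtain ⟨i, rfl⟩ := mem_zpowers_iff.1 ha
        obtain ⟨i', rfl⟩ := mem_zpowers_iff.1 hb
        exact (Commute.zpow_zpow_self x i i').eq
      have hXd : ∀ a ∈ zpowers x, Commute d a := fun a ha => by
        obtain ⟨i, rfl⟩ := mem_zpowers_iff.1 ha
        exact hdc.zpow_right i
      have hTc : ∀ a ∈ T, ∀ b ∈ T, Commute a b := by
        intro a ha b hb
        rcases hTX a ha with ha' | ⟨a', ha', rfl⟩ <;> rcases hTX b hb with hb' | ⟨b', hb', rfl⟩
        · exact hXc a ha' b hb'
        · exact (show Commute a b' from hXc a ha' b' hb').mul_right (hXd a ha').symm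
        · exact (show Commute a' b from hXc a' ha' b hb').mul_left (hXd b hb')
        · exact ((show Commute a' b' from hXc a' ha' b' hb').mul_right (hXd a' ha').symm).mul_left
            ((hXd b' hb').mul_right (Commute.refl d))
      have hd2 : d * d = 1 ∨ d * d = z := by
        have h2 : d * d ∈ zpowers x := by
          have := mem_subgroupOf.1 ((Subgroup.mul_mem_iff_of_index_two hidxX (a := ⟨d, hdT⟩)
            (b := ⟨d, hdT⟩)).2 Iff.rfl)
          exact this
        rcases hxmem _ h2 with e' | e' | e' | e'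
        · exact Or.inl e'
        · exact Or.inr e'
        · exfalso; have := h4 d hdT.1; rw [e', hx2] at this; exact hz1 this
        · exfalso; have := h4 d hdT.1
          rw [e', ← mul_inv_rev, hx2, inv_eq_one] at this; exact hz1 this
      have hsq2 : ∀ a ∈ T, a * a = 1 ∨ a * a = z := by
        intro a ha
        have hX : ∀ b ∈ zpowers x, b * b = 1 ∨ b * b = z := fun b hb => by
          rcases hxmem b hb with rfl | rfl | rfl | rfl
          · exact Or.inl (mul_one 1)
          · exact Or.inl hzz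
          · exact Or.inr hx2
          · exact Or.inr (by rw [← mul_inv_rev, hx2, inv_eq_of_mul_eq_one_right hzz])
        rcases hTX a ha with ha' | ⟨b, hb, rfl⟩
        · exact hX a ha'
        · rw [← pow_two, (hXd b hb).symm.mul_pow, pow_two, pow_two]
          rcases hX b hb with e1 | e1 <;> rcases hd2 with e2 | e2 <;> rw [e1, e2]
          · exact Or.inl (mul_one 1)
          · exact Or.inr (one_mul z)
          · exact Or.inr (mul_one z)
          · exact Or.inl hzz
      -- the normaliser of the Sylow subgroup fixes `z`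
      have hTp : IsPGroup 2 (T.subgroupOf S) :=
        (T'.isPGroup'.to_le inf_le_left).of_equiv (subgroupOfEquivOfLe inf_le_right).symm
      obtain ⟨Q, hQ⟩ := hTp.exists_le_sylow
      have hQeq : (Q : Subgroup S) = T.subgroupOf S := by
        refine (eq_of_le_of_card_ge hQ (le_of_eq ?_)).symm
        rw [Nat.card_congr (subgroupOfEquivOfLe (inf_le_right : T ≤ S)).toEquiv, hT8,
          Q.card_eq_multiplicity, hS, show 360 = 2 ^ 3 * 45 by norm_num,
          Nat.factorization_mul (by norm_num) (by norm_num), Finsupp.add_apply,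
          Nat.prime_two.factorization_pow, Finsupp.single_eq_same,
          Nat.factorization_eq_zero_of_not_dvd (by norm_num : ¬ 2 ∣ 45)]
        norm_num
      refine H68.burnside_not_abelian hna Q (by rw [hS]; norm_num) fun n hn => ?_
      have hnT : ∀ a ∈ T, (n : A) * a * (n : A)⁻¹ ∈ T := fun a ha => by
        have haS : a ∈ S := (mem_inf.1 ha).2
        have h1 : (⟨a, haS⟩ : S) ∈ (Q : Subgroup S) := hQeq.ge (mem_subgroupOf.2 ha)
        exact mem_subgroupOf.1 (hQeq.le ((mem_normalizer_iff.1 hn ⟨a, haS⟩).1 h1))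
      have hnz : Commute (n : A) z := by
        refine mul_inv_eq_iff_eq_mul.1 ?_
        have e' : (n : A) * z * (n : A)⁻¹ = ((n : A) * x * (n : A)⁻¹) * ((n : A) * x * (n : A)⁻¹) := by
          rw [← hx2]; group
        rcases hsq2 _ (hnT x hxT) with e1 | e1
        · exact absurd (conj_eq_one_iff.1 (e'.trans e1)) hz1
        · exact e'.trans e1
      have hzo : orderOf z = 2 := orderOf_eq_prime (by rw [pow_two, hzz]) hz1
      have hn2 : IsPGroup 2 (zpowers n) := by
        refine IsPGroup.of_card (p := 2) (n := (orderOf n).factorization 2) ?_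
        rw [Nat.card_zpowers]
        by_contra hne
        obtain ⟨s, hs, hsd, hs2⟩ : ∃ s, s.Prime ∧ s ∣ orderOf n ∧ s ≠ 2 := by
          by_contra! hall
          have hpp := Nat.eq_prime_pow_of_unique_prime_dvd (orderOf_pos n).ne'
            (fun {d} hd hdv => hall d hd hdv)
          exact hne (hpp.trans (congrArg _ (by
            conv_rhs => rw [hpp, Nat.prime_two.factorization_pow, Finsupp.single_eq_same])))
        rw [← orderOf_coe] at hsd
        exact hC s hs hs2 (hasOrd_prime_mul Nat.prime_two hs hs2.symm hzo hsd hnz.symm)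
      have hnQ : n ∈ (Q : Subgroup S) := by
        have hle : zpowers n ⊔ (Q : Subgroup S) = Q := Q.is_maximal'
          (hn2.to_sup_of_normal_right' Q.isPGroup' (zpowers_le.2 hn)) le_sup_right
        exact hle ▸ mem_sup_left (mem_zpowers n)
      refine mem_centralizer_iff.2 fun a ha => Subtype.ext ?_
      rw [hQeq] at hnQ ha
      exact (hTc a (mem_subgroupOf.1 ha) n (mem_subgroupOf.1 hnQ)).eq
    · exact e
  -- an outer involution
  set w := d * y with hw
  have hwS : w ∉ S := fun hh => hyS (by simpa [hw] using mul_mem (inv_mem (mem_inf.1 hdT).2) hh)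
  have hwx : Commute w x := by
    refine mul_inv_eq_iff_eq_mul.1 ?_
    calc w * x * w⁻¹ = d * (y * x * y⁻¹) * d⁻¹ := by rw [hw]; group
      _ = (d * x * d⁻¹)⁻¹ := by rw [hyx]; group
      _ = x := by rw [hdx, inv_inv]
  have hw1 : w * w ≠ 1 := hout w hwS
  have hwT' : w ∈ (T' : Subgroup A) := mul_mem hdT.1 (hRT hyR)
  have hw2 : w * w ∈ zpowers x := by
    rcases hTX (w * w) ⟨mul_mem hwT' hwT', hsq w⟩ with h' | ⟨b, hb, hbd⟩
    · exact h'
    · exfalso
      have hc : Commute (b * d) x := hbd ▸ hwx.mul_left hwx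
      have hbx : Commute b x := by
        obtain ⟨i, rfl⟩ := mem_zpowers_iff.1 hb
        exact (Commute.refl x).zpow_left i
      have hdc : Commute d x := by
        have := hbx.inv_left.mul_left hc
        rwa [inv_mul_cancel_left] at this
      rw [hdc.eq, mul_inv_cancel_right] at hdx
      exact hz1 (by rw [← hx2]; exact mul_eq_one_iff_eq_inv.2 hdx)
  have hw4 := h4 w hwT'
  rcases hxmem _ hw2 with e | e | e | e
  · exact hw1 e
  · refine hout (w * x) (fun hh => hwS (by simpa using mul_mem hh (inv_mem hxS))) ?_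
    rw [← pow_two, hwx.mul_pow, pow_two, pow_two, e, hx2, hzz]
  · rw [e, hx2] at hw4; exact hz1 hw4
  · rw [e, ← mul_inv_rev, hx2, inv_eq_one] at hw4; exact hz1 hw4

end Cfsg.Agent.H76.ThreeOrders
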