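import Cfsg.Agent.H76.ThreeOrders.Simple
import Cfsg.Agent.H76.ThreeOrders.Nine

/-!
The simple groups in question have no nontrivial almost simple extension with the property.
-/

set_option autoImplicit false
set_option linter.style.haveILetI false
set_option linter.unusedSectionVars false

namespace Cfsg.Agent.H76.ThreeOrders

open Subgroup

/-- A product of numbers congruent to one is congruent to one. -/
theorem cast_eq_one_of_prime_factors {r h : ℕ} (h0 : h ≠ 0)
    (hall : ∀ s : ℕ, s.Prime → s ∣ h → (s : ZMod r) = 1) : (h : ZMod r) = 1 := by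
  induction h using Nat.recOnPosPrimePosCoprime with
  | prime_pow p k hp hk =>
    rw [Nat.cast_pow, hall p hp (dvd_pow_self p hk.ne'), one_pow]
  | zero => exact absurd rfl h0
  | one => exact Nat.cast_one
  | coprime a b ha hb _ iha ihb =>
    rw [Nat.cast_mul, iha (by omega) fun s hs hd => hall s hs (hd.mul_right b),
      ihb (by omega) fun s hs hd => hall s hs (hd.mul_left a), one_mul]

variable {A : Type*} [Group A] [Finite A] {S : Subgroup A} {l : ℕ}

theorem HasOrd.of_sub {n : ℕ} (h : HasOrd S n) : HasOrd A n :=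
  h.of_injective S.subtype S.subtype_injective

namespace Ext

variable (E : Ext S l)

include E

theorem centralizing_of_invConj (hI : InvConj S) (hev : 2 ∣ Nat.card S) :
    ∃ x c : A, orderOf x = 2 ∧ Commute x c ∧ c ∉ S := by
  obtain ⟨x, hx⟩ := hasOrd_prime (G := S) Nat.prime_two hev
  obtain ⟨c, hc, hcS⟩ := E.exists_centralizing (x := (x : A)) x.2 fun y hy hyo => by
    obtain ⟨g, hg⟩ := hI ⟨y, hy⟩ x (by rw [orderOf_mk, hyo, orderOf_coe, hx]) hx
    exact ⟨g, g.2, congrArg Subtype.val hg⟩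
  exact ⟨x, c, by rw [orderOf_coe, hx], hc, hcS⟩

omit E in
theorem cls_data {s : ℕ} (h : Cls S s) : ∃ x ∈ S, orderOf x = s ∧
    (∀ y ∈ S, orderOf y = s → ∃ g ∈ S, g * y * g⁻¹ ∈ zpowers x) ∧
    ∃ w ∈ S, w * x * w⁻¹ = x⁻¹ := by
  obtain ⟨x, hx, hc, w, hw⟩ := h
  refine ⟨x, x.2, by rw [orderOf_coe, hx], fun y hy hyo => ?_, w, w.2, congrArg Subtype.val hw⟩
  obtain ⟨g, hg⟩ := hc ⟨y, hy⟩ (by rw [orderOf_mk, hyo])
  obtain ⟨k, hk⟩ := mem_zpowers_iff.1 hg
  exact ⟨g, g.2, mem_zpowers_iff.2 ⟨k, congrArg Subtype.val hk⟩⟩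

omit E in
theorem clsAut_data {s m : ℕ} (h : ClsAut S s m) : ∃ x ∈ S, orderOf x = s ∧
    (∀ y ∈ S, orderOf y = s → ∃ g ∈ S, g * y * g⁻¹ ∈ zpowers x) ∧
    ∃ w ∈ S, ∃ v : ℕ, w * x * w⁻¹ = x ^ v ∧ IsPrimitiveRoot (v : ZMod s) m := by
  obtain ⟨x, hx, hc, w, v, hw, hv⟩ := h
  refine ⟨x, x.2, by rw [orderOf_coe, hx], fun y hy hyo => ?_, w, w.2, v,
    congrArg Subtype.val hw, hv⟩
  obtain ⟨g, hg⟩ := hc ⟨y, hy⟩ (by rw [orderOf_mk, hyo])
  obtain ⟨k, hk⟩ := mem_zpowers_iff.1 hg
  exact ⟨g, g.2, mem_zpowers_iff.2 ⟨k, congrArg Subtype.val hk⟩⟩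

theorem hasOrd_of_cls {s : ℕ} (hs : s.Prime) (hsl : s ≠ l) (h : Cls S s) (hdiv : ¬ l ∣ s - 1) :
    HasOrd A (s * l) := by
  obtain ⟨x, hxS, hx, hc, -⟩ := cls_data h
  exact E.hasOrd_of_coprime hxS hs hsl hx hc hdiv

theorem hasOrd_two_mul {s : ℕ} (hs : s.Prime) (hs2 : s ≠ 2) (hl : l = 2) (h : Cls S s)
    (hm : (∀ y : A, y ∉ S → (∃ k : ℕ, y ^ (2 ^ k) = 1) → y ^ 2 = 1) ∨ s % 4 = 3) :
    HasOrd A (s * 2) := by
  obtain ⟨x, hxS, hx, hc, w, hw, hv⟩ := cls_data h
  exact E.hasOrd_of_inverted hxS hs hs2 hl hx hc hw hv hm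

theorem hasOrd_of_clsAut {s m : ℕ} [NeZero m] (hs : s.Prime) (hsl : s ≠ l) (h : ClsAut S s m)
    (hy : ∀ y : A, y ∉ S → (∃ k : ℕ, y ^ (l ^ k) = 1) → y ^ m = 1) : HasOrd A (s * l) := by
  obtain ⟨x, hxS, hx, hc, w, hw, v, hv, hvm⟩ := clsAut_data h
  exact E.hasOrd_of_powers hxS hs hsl hx hc hw hv hvm fun y hyS hk i hi =>
    cast_pow_eq_one hx hi (hy y hyS hk)

end Ext

/-- Elements of 2-power order are involutions when there is an element of order `2r`. -/
theorem sq_eq_one_of_mixed (h : Two A) {r : ℕ} (hr : r.Prime) (hr2 : r ≠ 2)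
    (hm : HasOrd A (2 * r)) {y : A} (hy : ∃ k : ℕ, y ^ (2 ^ k) = 1) : y ^ 2 = 1 := by
  obtain ⟨j, hj2, hj⟩ := (Nat.dvd_prime_pow Nat.prime_two).1
    (orderOf_dvd_of_pow_eq_one (h.pow_four_eq_one hy) : orderOf y ∣ 2 ^ 2)
  rw [← orderOf_dvd_iff_pow_eq_one, hj]
  rcases lt_or_ge j 2 with hlt | hge
  · exact (pow_dvd_pow 2 (Nat.lt_succ_iff.1 hlt) : 2 ^ j ∣ 2 ^ 1)
  · exfalso
    have h4 : HasOrd A 4 := ⟨y, by rw [hj, show j = 2 by omega]; norm_num⟩
    have := h.comp_eq Nat.prime_two h4 hm (by norm_num) (dvd_mul_right 2 r) (by norm_num)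
      (by have := hr.two_le; omega)
    have := hr.eq_two_or_odd.resolve_left hr2
    omega

/-- No extension of odd prime degree. -/
theorem no_ext_odd (h : Two A) (E : Ext S l) (hl : l ≠ 2) (hS : Kind S) (hev : 2 ∣ Nat.card S) :
    False := by
  classical
  obtain ⟨hI, hK⟩ := hS
  have hlp := E.prime
  have hl3 : 3 ≤ l := lt_of_le_of_ne hlp.two_le (Ne.symm hl)
  have hlodd : l % 2 = 1 := hlp.eq_two_or_odd.resolve_left hl
  have h2l : HasOrd A (2 * l) := by
    obtain ⟨x, c, hx, hc, hcS⟩ := E.centralizing_of_invConj hI hev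
    exact E.hasOrd_of_outer Nat.prime_two hl.symm hx hc hcS
  have hsl : ∀ s : ℕ, s.Prime → s ≠ 2 → ¬ HasOrd A (s * l) := fun s hs hs2 hm => by
    have := h.comp_eq hlp h2l hm (dvd_mul_left l 2) (dvd_mul_left l s) (by omega)
      (fun e => hs.ne_one ((Nat.mul_eq_right hlp.ne_zero).1 e))
    exact hs2 (Nat.eq_of_mul_eq_mul_right hlp.pos this).symm
  rcases hK with ⟨n, hn, hm1, hm2, hcls⟩ | ⟨q, r, u, hr, hr2, h2r, hu, hq, hcls, h13⟩ | ⟨h4, -⟩
  · have h4n : 4 ≤ 2 ^ n := le_trans (by norm_num) (Nat.pow_le_pow_right two_pos hn)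
    by_cases h3 : l = 3
    · subst h3
      by_cases hn2 : n = 2
      · subst hn2
        exact hsl 5 Nat.prime_five (by norm_num) (E.hasOrd_of_cls Nat.prime_five (by norm_num)
          (hcls 5 Nat.prime_five (by norm_num) (by norm_num)) (by norm_num))
      · have h8 : 8 ≤ 2 ^ n := le_trans (by norm_num) (Nat.pow_le_pow_right two_pos (show 3 ≤ n by omega))
        have hev2 : 2 ∣ 2 ^ n := dvd_pow_self 2 (by omega)
        obtain ⟨a, ha, ha2, ha3, hale⟩ : ∃ a : ℕ, HasOrd A a ∧ ¬ 2 ∣ a ∧ 3 ∣ a ∧ 3 < a := by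
          rcases Nat.even_or_odd n with he | ho
          · exact ⟨_, hm1.of_sub, by omega, H70.Eppo.three_dvd_even he, by omega⟩
          · exact ⟨_, hm2.of_sub, by omega, H70.Eppo.three_dvd_odd ho, by omega⟩
        have := h.comp_eq Nat.prime_three ha h2l ha3 (dvd_mul_left 3 2) (by omega) (by norm_num)
        exact ha2 (this ▸ dvd_mul_right 2 3)
    · have h3d : 3 ∣ (2 ^ n - 1) * (2 ^ n + 1) := by
        rcases Nat.even_or_odd n with he | ho
        · exact (H70.Eppo.three_dvd_even he).mul_right _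
        · exact (H70.Eppo.three_dvd_odd ho).mul_left _
      exact hsl 3 Nat.prime_three (by norm_num) (E.hasOrd_of_cls Nat.prime_three (Ne.symm h3)
        (hcls 3 Nat.prime_three (by norm_num) h3d) fun hd => by
          have := Nat.le_of_dvd two_pos hd; omega)
  · have hlr : l = r := by
      have := h.comp_eq Nat.prime_two h2l h2r.of_sub (dvd_mul_right 2 l) (dvd_mul_right 2 r)
        (by omega) (by have := hr.two_le; omega)
      exact Nat.eq_of_mul_eq_mul_left two_pos this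
    subst hlr
    have hq9 : 9 ≤ q := by rcases hq with ⟨h1, -⟩ | ⟨h1, -⟩ <;> omega
    have hsqd : q ^ 2 - 1 = (q + 1) * (q - 1) := by simpa using Nat.sq_sub_sq q 1
    by_cases hq3 : 3 ∣ q
    · rcases hq with ⟨h1, h2⟩ | ⟨-, -, h3⟩
      swap
      · exact h3 (Nat.dvd_iff_mod_eq_zero.1 hq3)
      obtain ⟨s, hs, hsu, hsr⟩ : ∃ s, s.Prime ∧ s ∣ u ∧ (s : ZMod l) ≠ 1 := by
        by_contra! hall
        have hu1 := cast_eq_one_of_prime_factors (r := l) (h := u) (by omega) hall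
        have e : ((u + 1 : ℕ) : ZMod l) = ((2 * l : ℕ) : ZMod l) := by congr 1; omega
        rw [Nat.cast_mul, ZMod.natCast_self, mul_zero, Nat.cast_add, hu1, Nat.cast_one,
          ← Nat.cast_one, ← Nat.cast_add, ZMod.natCast_eq_zero_iff] at e
        have := Nat.le_of_dvd two_pos e
        omega
      have hs2 : s ≠ 2 := fun e => by
        have : 2 ∣ u := e ▸ hsu
        omega
      have hsq1 : s ∣ q - 1 := hsu.trans ⟨2, by omega⟩
      have hsq : ¬ s ∣ q := fun hd => hs.ne_one (Nat.dvd_one.1 (by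
        have := Nat.dvd_sub hd hsq1
        rwa [show q - (q - 1) = 1 by omega] at this))
      have hsl' : s ≠ l := fun e => by
        have h1' : s ∣ 4 * l := e ▸ dvd_mul_left l 4
        rw [← h1] at h1'
        have := Nat.dvd_sub h1' hsq1
        rw [show q + 1 - (q - 1) = 2 by omega] at this
        exact hs2 ((Nat.prime_dvd_prime_iff_eq hs Nat.prime_two).1 this)
      refine hsl s hs hs2 (E.hasOrd_of_cls hs hsl'
        (hcls s hs hs2 hsq (by rw [hsqd]; exact hsq1.mul_left _)) fun hd => hsr ?_)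
      rw [← Nat.cast_one, ZMod.natCast_eq_natCast_iff]
      exact ((Nat.modEq_iff_dvd' hs.one_le).2 hd).symm
    · by_cases h3 : l = 3
      · subst h3
        rcases hq with ⟨h1, h2⟩ | ⟨h1, h2, -⟩
        · have hq11 : q = 11 := by omega
          subst hq11
          exact hsl 5 Nat.prime_five (by norm_num) (E.hasOrd_of_cls Nat.prime_five (by norm_num)
            (hcls 5 Nat.prime_five (by norm_num) (by norm_num) (by norm_num)) (by norm_num))
        · have hq13 : q = 13 := by omega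
          refine hsl 13 (by norm_num) (by norm_num) (E.hasOrd_of_clsAut (by norm_num) (by norm_num)
            (h13 hq13) fun y _ hk => ?_)
          by_cases hy1 : y = 1
          · rw [hy1, one_pow]
          obtain ⟨k, hk⟩ := hk
          obtain ⟨j, -, hj⟩ := (Nat.dvd_prime_pow Nat.prime_three).1 (orderOf_dvd_of_pow_eq_one hk)
          have hd3 : 3 ∣ orderOf y := by
            rcases Nat.eq_zero_or_pos j with rfl | hj0
            · exact absurd (orderOf_eq_one_iff.1 (by rw [hj, pow_zero])) hy1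
            · rw [hj]; exact dvd_pow_self 3 hj0.ne'
          rcases h.eq_or_eq Nat.prime_three (h2l.dvd (dvd_mul_left 3 2)) h2l ⟨y, rfl⟩ dvd_rfl
            (dvd_mul_left 3 2) hd3 (by norm_num) with e | e
          · have := pow_orderOf_eq_one y
            rwa [e] at this
          · exfalso
            have h2d : 2 ∣ 3 ^ j := hj ▸ e ▸ dvd_mul_right 2 3
            have := (Nat.prime_dvd_prime_iff_eq Nat.prime_two Nat.prime_three).1
              (Nat.prime_two.dvd_of_dvd_pow h2d)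
            omega
      · have h3d : 3 ∣ q ^ 2 - 1 := by
          rw [hsqd]
          rcases (show q % 3 = 1 ∨ q % 3 = 2 by omega) with e | e
          · exact (Nat.dvd_of_mod_eq_zero (by omega)).mul_left _
          · exact (Nat.dvd_of_mod_eq_zero (by omega)).mul_right _
        exact hsl 3 Nat.prime_three (by norm_num) (E.hasOrd_of_cls Nat.prime_three (Ne.symm h3)
          (hcls 3 Nat.prime_three (by norm_num) hq3 h3d) fun hd => by
            have := Nat.le_of_dvd two_pos hd; omega)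
  · have := h.comp_eq Nat.prime_two h4.of_sub h2l (by norm_num) (dvd_mul_right 2 l) (by norm_num)
      (by omega)
    omega

/-- No extension of degree two. -/
theorem no_ext_two [IsSimpleGroup S] (h : Two A) (E : Ext S 2) (hS : Kind S) : False := by
  classical
  obtain ⟨-, hK⟩ := hS
  rcases hK with ⟨n, hn, -, -, hcls⟩ | ⟨q, r, u, hr, hr2, h2r, hu, hq, hcls, -⟩ | ⟨h4, hK⟩
  · have h4n : 4 ≤ 2 ^ n := le_trans (by norm_num) (Nat.pow_le_pow_right two_pos hn)
    have hev2 : 2 ∣ 2 ^ n := dvd_pow_self 2 (by omega)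
    have h3d : 3 ∣ (2 ^ n - 1) * (2 ^ n + 1) := by
      rcases Nat.even_or_odd n with he | ho
      · exact (H70.Eppo.three_dvd_even he).mul_right _
      · exact (H70.Eppo.three_dvd_odd ho).mul_left _
    have h6 : HasOrd A (2 * 3) := mul_comm 3 2 ▸ E.hasOrd_two_mul Nat.prime_three (by norm_num) rfl
      (hcls 3 Nat.prime_three (by norm_num) h3d) (Or.inr rfl)
    obtain ⟨s, hs, hsd, hs3⟩ : ∃ s, s.Prime ∧ s ∣ (2 ^ n - 1) * (2 ^ n + 1) ∧ s ≠ 3 := by
      have key : ∀ a : ℕ, 1 < a → ¬ 3 ∣ a → ∃ s, s.Prime ∧ s ∣ a ∧ s ≠ 3 := fun a ha hna => by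
        obtain ⟨s, hs, hsa⟩ := Nat.exists_prime_and_dvd ha.ne'
        exact ⟨s, hs, hsa, fun e => hna (e ▸ hsa)⟩
      by_cases h3 : 3 ∣ 2 ^ n - 1
      · obtain ⟨s, hs, hsa, hne⟩ := key (2 ^ n + 1) (by omega) (by omega)
        exact ⟨s, hs, hsa.mul_left _, hne⟩
      · obtain ⟨s, hs, hsa, hne⟩ := key (2 ^ n - 1) (by omega) h3
        exact ⟨s, hs, hsa.mul_right _, hne⟩
    have hs2 : s ≠ 2 := by
      rintro rfl
      rcases Nat.prime_two.dvd_mul.1 hsd with e | e <;> omega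
    have h2s := E.hasOrd_two_mul hs hs2 rfl (hcls s hs hs2 hsd)
      (Or.inl fun y _ hy => sq_eq_one_of_mixed h Nat.prime_three (by norm_num) h6 hy)
    have := h.comp_eq Nat.prime_two h6 h2s (dvd_mul_right 2 3) (dvd_mul_left 2 s) (by norm_num)
      (by have := hs.two_le; omega)
    omega
  · have hr3 : 3 ≤ r := lt_of_le_of_ne hr.two_le (Ne.symm hr2)
    have hu1 : 1 < u := by rcases hq with ⟨h1, h2⟩ | ⟨h1, h2, -⟩ <;> omega
    obtain ⟨s, hs, hsu⟩ := Nat.exists_prime_and_dvd hu1.ne'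
    have hrodd : r % 2 = 1 := hr.eq_two_or_odd.resolve_left hr2
    have hs2 : s ≠ 2 := by
      rintro rfl
      rcases hq with ⟨h1, h2⟩ | ⟨h1, h2, -⟩ <;> omega
    obtain ⟨hsq, hsd, hsr⟩ : ¬ s ∣ q ∧ s ∣ q ^ 2 - 1 ∧ s ≠ r := by
      rw [show q ^ 2 - 1 = (q + 1) * (q - 1) by simpa using Nat.sq_sub_sq q 1]
      rcases hq with ⟨h1, h2⟩ | ⟨h1, h2, -⟩
      · have hsq1 : s ∣ q - 1 := hsu.trans ⟨2, by omega⟩
        refine ⟨fun hd => hs.ne_one (Nat.dvd_one.1 ?_), hsq1.mul_left _, fun e => hs2 ?_⟩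
        · have := Nat.dvd_sub hd hsq1
          rwa [show q - (q - 1) = 1 by omega] at this
        · have h' : s ∣ q + 1 := h1 ▸ e ▸ dvd_mul_left r 4
          have := Nat.dvd_sub h' hsq1
          rw [show q + 1 - (q - 1) = 2 by omega] at this
          exact (Nat.prime_dvd_prime_iff_eq hs Nat.prime_two).1 this
      · have hsq1 : s ∣ q + 1 := hsu.trans ⟨2, by omega⟩
        refine ⟨fun hd => hs.ne_one (Nat.dvd_one.1 ?_), hsq1.mul_right _, fun e => hs2 ?_⟩
        · have := Nat.dvd_sub hsq1 hd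
          rwa [show q + 1 - q = 1 by omega] at this
        · have h' : s ∣ q - 1 := (e ▸ dvd_mul_left r 4 : s ∣ 4 * r).trans ⟨1, by omega⟩
          have := Nat.dvd_sub hsq1 h'
          rw [show q + 1 - (q - 1) = 2 by omega] at this
          exact (Nat.prime_dvd_prime_iff_eq hs Nat.prime_two).1 this
    have h2s := E.hasOrd_two_mul hs hs2 rfl (hcls s hs hs2 hsq hsd)
      (Or.inl fun y _ hy => sq_eq_one_of_mixed h hr hr2 h2r.of_sub hy)
    have := h.comp_eq Nat.prime_two h2r.of_sub h2s (dvd_mul_right 2 r) (dvd_mul_left 2 s)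
      (by omega) (by have := hs.two_le; omega)
    omega
  · have hno : ∀ s : ℕ, s.Prime → s ≠ 2 → ¬ HasOrd A (2 * s) := fun s hs hs2 hm => by
      have := h.comp_eq Nat.prime_two h4.of_sub hm (by norm_num) (dvd_mul_right 2 s) (by norm_num)
        (by have := hs.two_le; omega)
      have := hs.eq_two_or_odd.resolve_left hs2
      omega
    rcases hK with h3 | h5 | h360
    · exact hno 3 Nat.prime_three (by norm_num) (mul_comm 3 2 ▸
        E.hasOrd_two_mul Nat.prime_three (by norm_num) rfl h3 (Or.inr rfl))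
    · exact hno 5 Nat.prime_five (by norm_num) (mul_comm 5 2 ▸
        E.hasOrd_of_clsAut (m := 4) Nat.prime_five (by norm_num) h5
          fun y _ hy => h.pow_four_eq_one hy)
    · exact no_ext_360 h E h360 hno

/-- No extension at all. -/
theorem no_ext [IsSimpleGroup S] (h : Two A) (E : Ext S l) (hns : ¬ Group.IsSolvable S) : False := by
  have hna : ¬ IsMulCommutative S := fun hc => hns (Group.isSolvable_of_comm fun a b => hc.is_comm.comm a b)
  have hk := kind_of_simples (h.subgroup S) (simples hna (h.subgroup S))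
  by_cases hl : l = 2
  · subst hl; exact no_ext_two h E hk
  · exact no_ext_odd h E hl hk (two_dvd_card hns)

end Cfsg.Agent.H76.ThreeOrders
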