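import Cfsg.Agent.H76.ThreeOrders.Almost
import Cfsg.Agent.Cores.PCore
import Cfsg.Agent.H76.OneMixed.Centralize

/-!
The solvable radical is a 2-group, and trivial unless the quotient is `PSL₂(2ⁿ)`.
-/

set_option autoImplicit false
set_option linter.style.haveILetI false
set_option linter.unusedSectionVars false

namespace Cfsg.Agent.H76.ThreeOrders

open Subgroup
open scoped commutatorElement

universe u

variable {G : Type u} [Group G] [Finite G]

/-- No element of order twice an odd prime. -/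
def NoMixed (G : Type*) [Group G] : Prop := ∀ r : ℕ, r.Prime → r ≠ 2 → ¬ HasOrd G (2 * r)

theorem centralizer_solvable (h : Two G) {K : Subgroup G} (hK : K ≠ ⊥) :
    Group.IsSolvable (centralizer (K : Set G)) := by
  obtain ⟨⟨k, hk⟩, hk1⟩ := (K.ne_bot_iff_exists_ne_one).1 hK
  haveI := h.solvable_centralizer (x := k) (fun e => hk1 (Subtype.ext e))
  exact Group.isSolvable_of_isSolvable_injective
    (inclusion_injective (centralizer_le (Set.singleton_subset_iff.2 hk)))

theorem odd_normal_eq_bot (h : Two G) (hns : ¬ Group.IsSolvable G) (hC : NoMixed G)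
    {W : Subgroup G} (hW : W.Normal) (hodd : Odd (Nat.card W)) : W = ⊥ := by
  classical
  haveI := hW
  by_contra hne
  obtain ⟨z, hz⟩ := hasOrd_prime (G := G) Nat.prime_two (two_dvd_card hns)
  have hinv : ∀ z : G, orderOf z = 2 → ∀ w ∈ W, z * w * z⁻¹ = w⁻¹ := fun z hz => by
    refine inverts_of_free (by have := pow_orderOf_eq_one z; rwa [hz, pow_two] at this)
      (fun a ha => hW.conj_mem a ha z) fun a ha hc => ?_
    by_contra ha1
    obtain ⟨s, hs, hsd⟩ := Nat.exists_prime_and_dvd (n := orderOf a)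
      (fun e => ha1 (orderOf_eq_one_iff.1 e))
    have hs2 : s ≠ 2 := fun e => Nat.not_even_iff_odd.2 hodd
      (even_iff_two_dvd.2 (e ▸ hsd.trans (orderOf_dvd_natCard W ha)))
    exact hC s hs hs2 (hasOrd_prime_mul Nat.prime_two hs hs2.symm hz hsd hc)
  set C := centralizer (W : Set G) with hCdef
  haveI : C.Normal := Subgroup.normal_centralizer (H := W)
  have hsol := centralizer_solvable h hne
  have hzC : z ∉ C := fun hzC => by
    obtain ⟨⟨w, hw⟩, hw1⟩ := (W.ne_bot_iff_exists_ne_one).1 hne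
    refine hw1 (Subtype.ext ?_)
    have e := hinv z hz w hw
    rw [← mem_centralizer_iff.1 hzC w hw, mul_inv_cancel_right] at e
    exact H39.eq_one_of_sq_of_odd (by rw [pow_two]; exact mul_eq_one_iff_eq_inv.2 e)
      (hodd.of_dvd_nat (orderOf_dvd_natCard W hw))
  have hcen : ∀ g : G, z * g * z⁻¹ * g⁻¹ ∈ C := fun g => mem_centralizer_iff.2 fun w hw => by
    have h1 : z * g * z⁻¹ * g⁻¹ * w * (z * g * z⁻¹ * g⁻¹)⁻¹ = w := by
      have hzi : z⁻¹ = z := inv_eq_of_mul_eq_one_right
        (by have := pow_orderOf_eq_one z; rwa [hz, pow_two] at this)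
      have e1 : z⁻¹ * (g⁻¹ * w * g) * z = (g⁻¹ * w * g)⁻¹ := by
        have := hinv z hz (g⁻¹ * w * g) (by simpa using hW.conj_mem w hw g⁻¹)
        rwa [hzi] at this ⊢
      calc z * g * z⁻¹ * g⁻¹ * w * (z * g * z⁻¹ * g⁻¹)⁻¹
          = z * (g * (z⁻¹ * (g⁻¹ * w * g) * z) * g⁻¹) * z⁻¹ := by group
        _ = z * w⁻¹ * z⁻¹ := by rw [e1]; group
        _ = w := by rw [hinv z hz w⁻¹ (inv_mem hw), inv_inv]
    exact (mul_inv_eq_iff_eq_mul.1 h1).symm
  have hnsQ : ¬ Group.IsSolvable (G ⧸ C) := not_solvable_quotient hsol hns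
  have hQ := (h.quotient C).solvable_centralizer (x := QuotientGroup.mk' C z)
    fun e => hzC ((QuotientGroup.eq_one_iff z).1 e)
  refine hnsQ ?_
  haveI := hQ
  refine Group.isSolvable_of_surjective
    (f := (centralizer ({QuotientGroup.mk' C z} : Set (G ⧸ C))).subtype) fun x => ?_
  obtain ⟨g, rfl⟩ := QuotientGroup.mk'_surjective C x
  refine ⟨⟨_, mem_centralizer_singleton_iff.2 ?_⟩, rfl⟩
  have e : QuotientGroup.mk' C (z * g * z⁻¹ * g⁻¹) = 1 := (QuotientGroup.eq_one_iff _).2 (hcen g)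
  rw [map_mul, map_mul, map_mul, map_inv, map_inv, mul_inv_eq_one, mul_inv_eq_iff_eq_mul] at e
  exact e.symm

theorem NoMixed.quotient (hC : NoMixed G) (N : Subgroup G) [N.Normal] : NoMixed (G ⧸ N) :=
  fun r hr hr2 hm => hC r hr hr2 (hm.of_surjective _ (QuotientGroup.mk'_surjective N))

/-- A solvable normal subgroup lies in the 2-core. -/
theorem solvable_normal_eq_bot (h : Two G) (hns : ¬ Group.IsSolvable G) (hC : NoMixed G)
    (hO : Cfsg.pCore 2 G = ⊥) {M : Subgroup G} (hM : M.Normal) (hMs : Group.IsSolvable M) :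
    M = ⊥ := by
  classical
  haveI := hM
  haveI := hMs
  by_contra hne
  -- a nontrivial abelian normal subgroup
  obtain ⟨n, hn⟩ := hMs.solvable
  obtain ⟨k, hk, hk'⟩ : ∃ k, derivedSeries M k ≠ ⊥ ∧ derivedSeries M (k + 1) = ⊥ := by
    clear hns hC
    induction n with
    | zero =>
      rw [derivedSeries_zero] at hn
      exact absurd ((eq_bot_iff_forall M).2 fun x hx =>
        congrArg Subtype.val ((eq_bot_iff_forall _).1 hn ⟨x, hx⟩ (mem_top _))) hne
    | succ n ih =>
      by_cases h0 : derivedSeries M n = ⊥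
      · exact ih h0
      · exact ⟨n, h0, hn⟩
  set D := (derivedSeries M k).map M.subtype with hD
  have hDne : D ≠ ⊥ := fun e => hk ((map_eq_bot_iff_of_injective _ M.subtype_injective).1 e)
  haveI hDn : D.Normal := ConjAct.normal_of_characteristic_of_normal
  have hcomm : ∀ a ∈ D, ∀ b ∈ D, Commute a b := by
    rintro _ ⟨a, ha, rfl⟩ _ ⟨b, hb, rfl⟩
    have h1 : ⁅a, b⁆ ∈ derivedSeries M (k + 1) := by
      rw [derivedSeries_succ]; exact commutator_mem_commutator ha hb
    rw [hk', mem_bot, commutatorElement_eq_one_iff_mul_comm] at h1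
    exact congrArg Subtype.val h1
  obtain ⟨p, hp, hpd⟩ := Nat.exists_prime_and_dvd (n := Nat.card D)
    (fun e => hDne (card_eq_one.1 e))
  haveI := Fact.mk hp
  let P : Subgroup G :=
    { carrier := {a | a ∈ D ∧ a ^ p = 1}
      one_mem' := ⟨one_mem D, one_pow p⟩
      mul_mem' := fun {a b} ha hb => ⟨mul_mem ha.1 hb.1, by
        rw [(hcomm a ha.1 b hb.1).mul_pow, ha.2, hb.2, one_mul]⟩
      inv_mem' := fun {a} ha => ⟨inv_mem ha.1, by rw [inv_pow, ha.2, inv_one]⟩ }
  haveI hPn : P.Normal := ⟨fun a ha g => ⟨hDn.conj_mem a ha.1 g, by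
    rw [conj_pow, ha.2, mul_one, mul_inv_cancel]⟩⟩
  have hPp : IsPGroup p P := fun a => ⟨1, Subtype.ext (by rw [pow_one, SubmonoidClass.coe_pow]; exact a.2.2)⟩
  have hPne : P ≠ ⊥ := by
    obtain ⟨⟨a, ha⟩, hao⟩ := exists_prime_orderOf_dvd_card' (G := D) p hpd
    rw [orderOf_mk] at hao
    intro e
    have : a ∈ P := ⟨ha, hao ▸ pow_orderOf_eq_one a⟩
    rw [e, mem_bot] at this
    rw [this, orderOf_one] at hao
    exact hp.ne_one hao.symm
  by_cases hp2 : p = 2
  · subst hp2
    exact hPne (le_bot_iff.1 (hO ▸ Cores.le_pCore hPp))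
  · refine hPne (odd_normal_eq_bot h hns hC hPn ?_)
    obtain ⟨j, hj⟩ := IsPGroup.iff_card.1 hPp
    rw [hj]
    exact (hp.odd_of_ne_two hp2).pow

/-- With no mixed orders the radical is the 2-core. -/
theorem radical_eq_pCore (h : Two G) (hns : ¬ Group.IsSolvable G) (hC : NoMixed G) {R : Subgroup G}
    [R.Normal] (hRs : Group.IsSolvable R)
    (hmax : ∀ N : Subgroup G, N.Normal → Group.IsSolvable N → N ≤ R) : R = Cfsg.pCore 2 G := by
  haveI : Fact (Nat.Prime 2) := ⟨Nat.prime_two⟩
  have hUp : IsPGroup 2 (Cfsg.pCore 2 G) := Cores.pCore_isPGroup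
  haveI hUs : Group.IsSolvable (Cfsg.pCore 2 G) := by
    haveI := hUp.isNilpotent
    infer_instance
  refine le_antisymm ?_ (hmax _ inferInstance hUs)
  haveI := hRs
  have hbot := solvable_normal_eq_bot (h.quotient (Cfsg.pCore 2 G))
    (not_solvable_quotient hUs hns) (hC.quotient _) Cores.pCore_quotient_pCore
    (M := R.map (QuotientGroup.mk' (Cfsg.pCore 2 G)))
    (Subgroup.Normal.map inferInstance _ (QuotientGroup.mk'_surjective _))
    (Group.isSolvable_of_surjective (f := (QuotientGroup.mk' (Cfsg.pCore 2 G)).subgroupMap R)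
      ((QuotientGroup.mk' (Cfsg.pCore 2 G)).subgroupMap_surjective R))
  intro x hx
  have : QuotientGroup.mk' (Cfsg.pCore 2 G) x ∈ (⊥ : Subgroup _) := hbot ▸ mem_map_of_mem _ hx
  rw [mem_bot] at this
  exact (QuotientGroup.eq_one_iff x).1 this

/-- Over a nontrivial 2-core there is no element of order four. -/
theorem no_order_four (h : Two G) (hns : ¬ Group.IsSolvable G) (hC : NoMixed G)
    (hU : Cfsg.pCore 2 G ≠ ⊥) : ¬ HasOrd (G ⧸ Cfsg.pCore 2 G) 4 := by
  classical
  haveI : Fact (Nat.Prime 2) := ⟨Nat.prime_two⟩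
  intro h4
  obtain ⟨hbar, hhbar⟩ := h4
  obtain ⟨x, rfl⟩ := QuotientGroup.mk'_surjective _ hbar
  set U := Cfsg.pCore 2 G with hUdef
  have hUp : IsPGroup 2 U := Cores.pCore_isPGroup
  -- lifts have order four
  have hlift : ∀ y : G, QuotientGroup.mk' U y = QuotientGroup.mk' U x → y ^ 4 = 1 := by
    intro y hy
    have hd : 4 ∣ orderOf y := by
      rw [← hhbar, ← hy]; exact orderOf_map_dvd _ y
    have h4 : HasOrd G 4 := HasOrd.of_dvd hd
    rcases h.eq_or_eq Nat.prime_two (h4.dvd (by norm_num : 2 ∣ 4)) h4 ⟨y, rfl⟩ dvd_rfl (by norm_num)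
      ((by norm_num : 2 ∣ 4).trans hd) (by norm_num) with e | e
    · rw [e] at hd; norm_num at hd
    · rw [← e]; exact pow_orderOf_eq_one y
  have hx4 := hlift x rfl
  set z := x * x with hz
  have hzz : z * z = 1 := by rw [hz, ← pow_two, ← pow_two, ← pow_mul]; exact hx4
  have hzU : z ∉ U := fun hzU => by
    have e : (QuotientGroup.mk' U x) ^ 2 = 1 := by
      rw [← map_pow, pow_two]; exact (QuotientGroup.eq_one_iff z).2 hzU
    have := orderOf_dvd_of_pow_eq_one e
    rw [hhbar] at this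
    norm_num at this
  have hzo : orderOf z = 2 :=
    orderOf_eq_prime (by rw [pow_two, hzz]) fun e => hzU (e ▸ one_mem U)
  obtain ⟨g, k, hk1, hkodd, hinv, -⟩ := exists_inverted hzo fun N hN hNp hzN => by
    haveI := hN
    exact hzU (Cores.le_pCore hNp hzN)
  -- an elementary abelian normal subgroup
  haveI : Nontrivial U := U.nontrivial_iff_ne_bot.2 hU
  haveI := hUp.center_nontrivial
  let V : Subgroup G :=
    { carrier := {a | a ∈ U ∧ (∀ b ∈ U, Commute a b) ∧ a * a = 1}
      one_mem' := ⟨one_mem U, fun b _ => Commute.one_left b, mul_one 1⟩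
      mul_mem' := fun {a b} ha hb => ⟨mul_mem ha.1 hb.1, fun c hc => (ha.2.1 c hc).mul_left
        (hb.2.1 c hc), by
          rw [← pow_two, (ha.2.1 b hb.1).mul_pow, pow_two, pow_two, ha.2.2, hb.2.2, one_mul]⟩
      inv_mem' := fun {a} ha => ⟨inv_mem ha.1, fun c hc => (ha.2.1 c hc).inv_left, by
        rw [← mul_inv_rev, ha.2.2, inv_one]⟩ }
  have hVn : ∀ (g : G), ∀ a ∈ V, g * a * g⁻¹ ∈ V := fun g a ha =>
    ⟨(inferInstance : U.Normal).conj_mem a ha.1 g, fun b hb => by
      have h1 := ha.2.1 (g⁻¹ * b * g) (by simpa using (inferInstance : U.Normal).conj_mem b hb g⁻¹)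
      calc g * a * g⁻¹ * b = g * (a * (g⁻¹ * b * g)) * g⁻¹ := by group
        _ = g * ((g⁻¹ * b * g) * a) * g⁻¹ := by rw [h1.eq]
        _ = b * (g * a * g⁻¹) := by group,
      by rw [show g * a * g⁻¹ * (g * a * g⁻¹) = g * (a * a) * g⁻¹ by group, ha.2.2, mul_one,
        mul_inv_cancel]⟩
  obtain ⟨v0, hv0, hv01⟩ : ∃ v ∈ V, v ≠ 1 := by
    obtain ⟨⟨c, hc⟩, hc1⟩ := exists_ne (1 : Subgroup.center U)
    obtain ⟨d, hd⟩ := exists_prime_orderOf_dvd_card' (G := Subgroup.center U) 2 (by
      obtain ⟨j, hj⟩ := IsPGroup.iff_card.1 (hUp.to_subgroup (Subgroup.center U))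
      rcases Nat.eq_zero_or_pos j with rfl | hj0
      · rw [pow_zero] at hj
        exact absurd ((Nat.card_eq_one_iff_unique.1 hj).1.elim ⟨c, hc⟩ 1) hc1
      · rw [hj]; exact dvd_pow_self 2 hj0.ne')
    refine ⟨((d : U) : G), ⟨(d : U).2, fun b hb => ?_, ?_⟩, fun e => ?_⟩
    · exact (congrArg Subtype.val (mem_center_iff.1 d.2 ⟨b, hb⟩)).symm
    · have := pow_orderOf_eq_one d
      rw [hd, pow_two] at this
      exact congrArg Subtype.val (congrArg Subtype.val this)
    · have : d = 1 := Subtype.ext (Subtype.ext e)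
      rw [this, orderOf_one] at hd
      omega
  have hVc : ∀ a ∈ V, ∀ b ∈ V, Commute a b := fun a ha b hb => ha.2.1 b hb.1
  have hVi : ∀ a ∈ V, a⁻¹ = a := fun a ha => inv_eq_of_mul_eq_one_right ha.2.2
  -- nothing in `V` is fixed by `k`
  have hfix : ∀ a ∈ V, Commute k a → a = 1 := fun a ha hc => by
    by_contra ha1
    obtain ⟨s, hs, hsd⟩ := Nat.exists_prime_and_dvd hk1
    have hs2 : s ≠ 2 := fun e => Nat.not_even_iff_odd.2 hkodd (even_iff_two_dvd.2 (e ▸ hsd))
    exact hC s hs hs2 (hasOrd_prime_mul Nat.prime_two hs hs2.symm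
      (orderOf_eq_prime (by rw [pow_two, ha.2.2]) ha1) hsd hc.symm)
  -- the norm of `x` is trivial
  have hnorm : ∀ v ∈ V, v * (x * v * x⁻¹) * (z * v * z⁻¹) * (x * (z * v * z⁻¹) * x⁻¹) = 1 := by
    intro v hv
    have h1 := hlift (v * x) (by
      rw [map_mul, show QuotientGroup.mk' U v = 1 from (QuotientGroup.eq_one_iff v).2 hv.1, one_mul])
    have e : x ^ 4 = 1 := hx4
    calc v * (x * v * x⁻¹) * (z * v * z⁻¹) * (x * (z * v * z⁻¹) * x⁻¹)
        = (v * x) ^ 4 * (x ^ 4)⁻¹ := by rw [hz]; simp only [pow_succ, pow_zero, one_mul]; group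
      _ = 1 := by rw [h1, e, inv_one, mul_one]
  -- fixed points of `z` are fixed by `x`
  have hA : ∀ a ∈ V, z * a * z⁻¹ = a → x * a * x⁻¹ = a := by
    intro a ha hza
    obtain ⟨m, hm⟩ := hkodd
    set F : ℕ → G := fun i => k ^ i * a * (k ^ i)⁻¹ with hF
    have hFV : ∀ i, F i ∈ V := fun i => hVn _ a ha
    haveI : IsMulCommutative V := ⟨⟨fun p q => Subtype.ext (hVc p p.2 q q.2).eq⟩⟩
    let _ : CommGroup V := { (inferInstance : Group V) with mul_comm := mul_comm' }
    let f : ℕ → V := fun i => ⟨F i, hFV i⟩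
    have hper : F (2 * m + 1) = F 0 := by
      simp only [hF, ← hm, pow_orderOf_eq_one, pow_zero]
    -- the product over the whole group is fixed by `k`
    have hall : ∏ i ∈ Finset.range (2 * m + 1), f i = 1 := by
      set P := ∏ i ∈ Finset.range (2 * m + 1), f i with hP
      have hsh : ∏ i ∈ Finset.range (2 * m + 1), f (i + 1) = P := by
        have h0 := Finset.prod_range_succ' f (2 * m + 1)
        rw [Finset.prod_range_succ, ← hP, show f (2 * m + 1) = f 0 from Subtype.ext hper] at h0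
        exact mul_right_cancel h0.symm
      refine Subtype.ext (hfix _ P.2 (mul_inv_eq_iff_eq_mul.1 ?_))
      let c : V →* V :=
        { toFun := fun p => ⟨k * p * k⁻¹, hVn k p p.2⟩
          map_one' := Subtype.ext (by simp)
          map_mul' := fun p q => Subtype.ext (by simp [mul_assoc]) }
      have hc : c P = P := by
        rw [hP, map_prod]
        refine Eq.trans (Finset.prod_congr rfl fun i _ => Subtype.ext ?_) hsh
        show k * F i * k⁻¹ = F (i + 1)
        simp only [hF, pow_succ']; group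
      exact congrArg Subtype.val hc
    let cz : V →* V :=
      { toFun := fun p => ⟨z * p * z⁻¹, hVn z p p.2⟩
        map_one' := Subtype.ext (by simp)
        map_mul' := fun p q => Subtype.ext (by simp [mul_assoc]) }
    have hzF : ∀ i ≤ 2 * m + 1, cz (f i) = f (2 * m + 1 - i) := by
      intro i hi
      refine Subtype.ext ?_
      show z * F i * z⁻¹ = F (2 * m + 1 - i)
      have e : z * k ^ i * z⁻¹ = k ^ (2 * m + 1 - i) := by
        rw [← conj_pow, hinv, inv_pow, inv_eq_iff_mul_eq_one, ← pow_add,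
          show i + (2 * m + 1 - i) = orderOf k by omega, pow_orderOf_eq_one]
      calc z * F i * z⁻¹ = (z * k ^ i * z⁻¹) * (z * a * z⁻¹) * (z * k ^ i * z⁻¹)⁻¹ := by
            simp only [hF]; group
        _ = F (2 * m + 1 - i) := by rw [e, hza]
    set P₁ := ∏ i ∈ Finset.range m, f (i + 1) with hP₁
    have h2 : cz P₁ = ∏ i ∈ Finset.range m, f (m + 1 + i) := by
      rw [hP₁, map_prod, ← Finset.prod_range_reflect]
      refine Finset.prod_congr rfl fun i hi => ?_
      rw [Finset.mem_range] at hi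
      rw [hzF _ (by omega)]
      congr 1
      omega
    have htot : f 0 * (P₁ * cz P₁) = 1 := by
      rw [h2, hP₁, ← hall, Finset.prod_range_succ' f (2 * m), mul_comm (f 0),
        show 2 * m = m + m by ring, Finset.prod_range_add]
      congr 1
      congr 1
      refine Finset.prod_congr rfl fun i _ => ?_
      congr 1
      omega
    have hu := P₁.2
    have ea : a = (P₁ : G) * (z * P₁ * z⁻¹) := by
      have h0 : a * ((P₁ : G) * (z * P₁ * z⁻¹)) = 1 := by
        have := congrArg Subtype.val htot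
        simpa [f, hF, cz] using this
      exact (inv_eq_of_mul_eq_one_right h0).symm.trans (hVi _ ha) |>.symm
    have e2 := hnorm _ hu
    set u := (P₁ : G)
    have h3 : a * (x * a * x⁻¹) = 1 := by
      rw [ea, ← e2]
      have hxu := hVn x u hu
      have hzu := hVn z u hu
      calc u * (z * u * z⁻¹) * (x * (u * (z * u * z⁻¹)) * x⁻¹)
          = u * ((z * u * z⁻¹) * (x * u * x⁻¹)) * (x * (z * u * z⁻¹) * x⁻¹) := by group
        _ = u * (x * u * x⁻¹) * (z * u * z⁻¹) * (x * (z * u * z⁻¹) * x⁻¹) := by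
            rw [(hVc _ hzu _ hxu).eq]; group
    exact (inv_eq_of_mul_eq_one_right h3).symm.trans (hVi a ha)
  -- `z` centralises `V`
  have hzV : ∀ v ∈ V, z * v * z⁻¹ = v := by
    intro v hv
    set u := v * (x * v * x⁻¹) with hu
    have hxv := hVn x v hv
    have huV : u ∈ V := mul_mem hv hxv
    have e1 : z * u * z⁻¹ = u := by
      have h1 := hnorm v hv
      have h2 : u * (z * u * z⁻¹) = 1 := by
        rw [← h1, hu, hz]; group
      exact (inv_eq_of_mul_eq_one_right h2).symm.trans (hVi u huV)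
    have e2 := hA u huV e1
    have hzv := hVn z v hv
    have e3 : (x * v * x⁻¹) * (z * v * z⁻¹) = (x * v * x⁻¹) * v := by
      calc (x * v * x⁻¹) * (z * v * z⁻¹) = x * u * x⁻¹ := by rw [hu, hz]; group
        _ = u := e2
        _ = (x * v * x⁻¹) * v := by rw [hu, (hVc _ hv _ hxv).eq]
    exact mul_left_cancel e3
  -- hence `k` fixes every element of `V`
  refine hv01 (hfix v0 hv0 ?_)
  have key : ∀ v ∈ V, k * v * k⁻¹ = k⁻¹ * v * k := fun v hv => by
    calc k * v * k⁻¹ = z * (z⁻¹ * (k * v * k⁻¹) * z) * z⁻¹ := by group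
      _ = z * (k⁻¹ * (z⁻¹ * v * z) * k) * z⁻¹ := by
          have e : z⁻¹ * k * z = k⁻¹ := by
            rw [inv_eq_of_mul_eq_one_right hzz]
            have := hinv
            rwa [inv_eq_of_mul_eq_one_right hzz] at this
          calc z * (z⁻¹ * (k * v * k⁻¹) * z) * z⁻¹
              = z * ((z⁻¹ * k * z) * (z⁻¹ * v * z) * (z⁻¹ * k * z)⁻¹) * z⁻¹ := by group
            _ = _ := by rw [e, inv_inv]
      _ = z * (k⁻¹ * v * k) * z⁻¹ := by
          have e : z⁻¹ * v * z = v := by
            rw [inv_eq_of_mul_eq_one_right hzz]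
            have := hzV v hv
            rwa [inv_eq_of_mul_eq_one_right hzz] at this
          rw [e]
      _ = k⁻¹ * v * k := hzV _ (by simpa using hVn k⁻¹ v hv)
  have h2 : Commute (k ^ 2) v0 := by
    refine mul_inv_eq_iff_eq_mul.1 ?_
    calc k ^ 2 * v0 * (k ^ 2)⁻¹ = k * (k * v0 * k⁻¹) * k⁻¹ := by rw [pow_two]; group
      _ = v0 := by rw [key v0 hv0]; group
  obtain ⟨m, hm⟩ := hkodd
  have ek : k = (k ^ 2) ^ (m + 1) := by
    rw [← pow_mul, show 2 * (m + 1) = (2 * m + 1) + 1 by ring, pow_succ, ← hm, pow_orderOf_eq_one,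
      one_mul]
  rw [ek]
  exact h2.pow_left _

/-- A mixed order forces a trivial radical. -/
theorem radical_eq_bot_of_mixed (h : Two G) (hns : ¬ Group.IsSolvable G) {r : ℕ} (hr : r.Prime)
    (hr2 : r ≠ 2) (hm : HasOrd G (2 * r)) {R : Subgroup G} [R.Normal] (hRs : Group.IsSolvable R)
    [IsSimpleGroup (G ⧸ R)] (hI : InvConj (G ⧸ R)) : R = ⊥ := by
  classical
  haveI : Fact (Nat.Prime 2) := ⟨Nat.prime_two⟩
  obtain ⟨T⟩ : Nonempty (Sylow 2 G) := inferInstance
  have hsq : ∀ a ∈ (T : Subgroup G), a * a = 1 := fun a ha => by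
    obtain ⟨j, hj⟩ := T.isPGroup' ⟨a, ha⟩
    rw [← pow_two]
    exact sq_eq_one_of_mixed h hr hr2 hm ⟨j, congrArg Subtype.val hj⟩
  have hcomm : ∀ a ∈ (T : Subgroup G), ∀ b ∈ (T : Subgroup G), Commute a b := fun a ha b hb => by
    have e : (a * b)⁻¹ = a * b := inv_eq_of_mul_eq_one_right (hsq _ (mul_mem ha hb))
    rw [mul_inv_rev, inv_eq_of_mul_eq_one_right (hsq a ha),
      inv_eq_of_mul_eq_one_right (hsq b hb)] at e
    exact e.symm
  have hnsB : ¬ Group.IsSolvable (G ⧸ R) := not_solvable_quotient hRs hns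
  -- the radical has odd order
  have hTodd : Odd (Nat.card R) := by
    by_contra heven
    rw [Nat.not_odd_iff_even, even_iff_two_dvd] at heven
    obtain ⟨P⟩ : Nonempty (Sylow 2 R) := inferInstance
    set P' := (P : Subgroup R).map R.subtype with hP'
    have hP'ne : P' ≠ ⊥ := fun e =>
      P.ne_bot_of_dvd_card heven ((map_eq_bot_iff_of_injective _ R.subtype_injective).1 e)
    have htop := Sylow.normalizer_sup_eq_top P
    set C := centralizer (P' : Set G) with hCdef
    haveI := centralizer_solvable h hP'ne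
    set N := normalizer (P' : Set G) with hN
    have hcov : ∀ b : G ⧸ R, ∃ n ∈ N, QuotientGroup.mk' R n = b := fun b => by
      obtain ⟨g, rfl⟩ := QuotientGroup.mk'_surjective R b
      obtain ⟨n, hn, w, hw, e⟩ := mem_sup_of_normal_right.1 (htop.ge (mem_top g))
      refine ⟨n, hn, ?_⟩
      rw [← e, map_mul, show QuotientGroup.mk' R w = 1 from (QuotientGroup.eq_one_iff w).2 hw,
        mul_one]
    have hCn : (C.map (QuotientGroup.mk' R)).Normal := ⟨by
      rintro _ ⟨c, hc, rfl⟩ b
      obtain ⟨n, hn, rfl⟩ := hcov b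
      refine ⟨n * c * n⁻¹, mem_centralizer_iff.2 fun w hw => ?_, by simp [map_mul]⟩
      have h1 := mem_centralizer_iff.1 hc _ ((mem_normalizer_iff''.1 hn w).1 hw)
      calc w * (n * c * n⁻¹) = n * (n⁻¹ * w * n * c) * n⁻¹ := by group
        _ = n * (c * (n⁻¹ * w * n)) * n⁻¹ := by rw [h1]
        _ = n * c * n⁻¹ * w := by group⟩
    obtain ⟨T', hT'⟩ := (P.isPGroup'.map R.subtype).exists_le_sylow
    have hTC : (T' : Subgroup G) ≤ C := fun s hs => mem_centralizer_iff.2 fun w hw => by
      obtain ⟨g, hg⟩ := MulAction.exists_smul_eq G T' T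
      have hm : ∀ a ∈ (T' : Subgroup G), g * a * g⁻¹ ∈ (T : Subgroup G) := fun a ha => by
        rw [← hg, Sylow.coe_subgroup_smul, mem_pointwise_smul_iff_inv_smul_mem]
        simp only [MulAut.smul_def, MulAut.conj_inv_apply]
        simpa [mul_assoc] using ha
      have hc := hcomm _ (hm w (hT' hw)) _ (hm s hs)
      have := (Commute.conj_iff g).1 hc
      exact this.eq
    rcases hCn.eq_bot_or_eq_top with e | e
    · -- the Sylow subgroup lies in the radical
      have hTR : (T' : Subgroup G) ≤ R := fun s hs => by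
        have := e ▸ mem_map_of_mem (QuotientGroup.mk' R) (hTC hs)
        exact (QuotientGroup.eq_one_iff s).1 (mem_bot.1 this)
      obtain ⟨b, hb⟩ := hasOrd_prime (G := G ⧸ R) Nat.prime_two (two_dvd_card hnsB)
      have hd : 2 ∣ R.index := by
        rw [index_eq_card]; exact hb ▸ orderOf_dvd_natCard b
      exact T'.not_dvd_index (hd.trans (index_dvd_of_le hTR))
    · refine hnsB (Group.isSolvable_of_surjective (f := (QuotientGroup.mk' R).comp C.subtype) ?_)
      intro b
      obtain ⟨c, hc, rfl⟩ := (e ▸ mem_top b : b ∈ C.map (QuotientGroup.mk' R))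
      exact ⟨⟨c, hc⟩, rfl⟩
  by_contra hRne
  have hna : ¬ IsMulCommutative G := fun hc =>
    hns (Group.isSolvable_of_comm fun a b => hc.is_comm.comm a b)
  let H : OneMixed.Hyp G :=
    { r := r
      hr := hr
      hr2 := hr2
      hna := hna
      heven := fun g hg => h.eq_or_eq Nat.prime_two (hm.dvd (dvd_mul_right 2 r)) hm ⟨g, rfl⟩
        dvd_rfl (dvd_mul_right 2 r) hg (by have := hr.two_le; omega)
      hrord := fun g hg => h.eq_or_eq hr (hm.dvd (dvd_mul_left r 2)) hm ⟨g, rfl⟩
        dvd_rfl (dvd_mul_left r 2) hg (by have := hr.two_le; omega) }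
  -- at least a four-group
  have h4 : 4 ≤ Nat.card (T : Subgroup G) := by
    obtain ⟨k, hk⟩ := IsPGroup.iff_card.1 T.isPGroup'
    by_contra hlt
    have hk1 : k ≤ 1 := by
      by_contra! h2
      exact hlt (hk ▸ le_trans (by norm_num) (Nat.pow_le_pow_right two_pos h2))
    let TB : Sylow 2 (G ⧸ R) := T.mapSurjective (QuotientGroup.mk'_surjective R)
    have hcard : Nat.card (TB : Subgroup (G ⧸ R)) ∣ 2 := by
      refine dvd_trans (Subgroup.card_map_dvd (T : Subgroup G) (QuotientGroup.mk' R)) ?_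
      rw [hk]
      exact (pow_dvd_pow 2 hk1 : 2 ^ k ∣ 2 ^ 1)
    refine H68.burnside_not_abelian (fun hc => hnsB (Group.isSolvable_of_comm fun a b =>
      hc.is_comm.comm a b)) TB (two_dvd_card hnsB) fun n hn => mem_centralizer_iff.2 fun y hy => ?_
    rcases eq_or_ne y 1 with rfl | hy1
    · simp
    have hy' : n * y * n⁻¹ ∈ (TB : Subgroup (G ⧸ R)) := (mem_normalizer_iff.1 hn y).1 hy
    have e : n * y * n⁻¹ = y := by
      by_contra hne
      have h3 : ({1, y, n * y * n⁻¹} : Set (G ⧸ R)) ⊆ ((TB : Subgroup (G ⧸ R)) : Set (G ⧸ R)) := by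
        rintro w (rfl | rfl | rfl)
        exacts [one_mem _, hy, hy']
      have h5 := Set.ncard_le_ncard h3 (Set.toFinite _)
      rw [Set.ncard_insert_of_notMem (by
          simp only [Set.mem_insert_iff, Set.mem_singleton_iff, not_or]
          exact ⟨Ne.symm hy1, fun e => hy1 (conj_eq_one_iff.1 e.symm)⟩) (Set.toFinite _),
        Set.ncard_pair (Ne.symm hne), ← Nat.card_coe_set_eq] at h5
      simp only [SetLike.coe_sort_coe] at h5
      have := Nat.le_of_dvd two_pos hcard
      omega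
    exact (mul_inv_eq_iff_eq_mul.1 e).symm
  have hTN : (T : Subgroup G) ≤ normalizer (R : Set G) := by
    rw [normalizer_eq_top_iff.2 inferInstance]; exact le_top
  have hRr : IsPGroup r R := H.isPGroup_of_normalized T.isPGroup' h4 hTN hTodd
  -- the normaliser of the Sylow subgroup is transitive
  have htr : ∀ s ∈ (T : Subgroup G), s ≠ 1 → ∀ t ∈ (T : Subgroup G), t ≠ 1 →
      ∃ n ∈ normalizer ((T : Subgroup G) : Set G), n * s * n⁻¹ = t := by
    intro s hs hs1 t ht ht1
    have himg : ∀ a ∈ (T : Subgroup G), a ≠ 1 → orderOf (QuotientGroup.mk' R a) = 2 := by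
      intro a ha ha1
      refine orderOf_eq_prime (by rw [← map_pow, pow_two, hsq a ha, map_one]) fun e => ha1 ?_
      refine H39.eq_one_of_sq_of_odd (by rw [pow_two]; exact hsq a ha) ?_
      exact hTodd.of_dvd_nat (orderOf_dvd_natCard R ((QuotientGroup.eq_one_iff a).1 e))
    obtain ⟨gb, hgb⟩ := hI _ _ (himg s hs hs1) (himg t ht ht1)
    obtain ⟨g, rfl⟩ := QuotientGroup.mk'_surjective R gb
    set v := g * s * g⁻¹ with hv
    have hvv : v * v = 1 := by
      rw [hv, show g * s * g⁻¹ * (g * s * g⁻¹) = g * (s * s) * g⁻¹ by group, hsq s hs, mul_one,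
        mul_inv_cancel]
    set d := v * t with hd
    have hdR : d ∈ R := by
      refine (QuotientGroup.eq_one_iff d).1 ?_
      show QuotientGroup.mk' R d = 1
      rw [hd, hv, map_mul, map_mul, map_mul, map_inv, hgb, ← map_mul, hsq t ht, map_one]
    obtain ⟨j, hj⟩ := hTodd.of_dvd_nat (orderOf_dvd_natCard R hdR)
    have hti : t⁻¹ = t := inv_eq_of_mul_eq_one_right (hsq t ht)
    have hvi : v⁻¹ = v := inv_eq_of_mul_eq_one_right hvv
    have hvdv : v * d * v⁻¹ = d⁻¹ := by
      rw [hvi, hd, eq_inv_iff_mul_eq_one, ← mul_assoc v v t, hvv, one_mul, mul_assoc t v (v * t),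
        ← mul_assoc v v t, hvv, one_mul, hsq t ht]
    have hconj : ∀ i : ℕ, v * d ^ i * v⁻¹ = (d ^ i)⁻¹ := fun i => by
      rw [← conj_pow, hvdv, inv_pow]
    have e1 : d ^ j * v * (d ^ j)⁻¹ = t := by
      have h1 : d ^ j * v = v * (d ^ j)⁻¹ := by
        calc d ^ j * v = v * (v⁻¹ * d ^ j * v) := by group
          _ = v * (d ^ j)⁻¹ := by rw [hvi, ← hconj j, hvi]
      calc d ^ j * v * (d ^ j)⁻¹ = v * (d ^ (2 * j))⁻¹ := by
            rw [h1, two_mul, pow_add, mul_inv_rev, mul_assoc]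
        _ = v * d := by
            congr 1
            rw [inv_eq_iff_mul_eq_one, ← pow_succ, ← hj, pow_orderOf_eq_one]
        _ = t := by rw [hd, ← mul_assoc, hvv, one_mul]
    set g' := d ^ j * g with hg'
    have e2 : g' * s * g'⁻¹ = t := by
      rw [hg', ← e1, hv]; group
    haveI : IsMulCommutative (T : Subgroup G) :=
      ⟨⟨fun a b => Subtype.ext (hcomm a a.2 b b.2).eq⟩⟩
    obtain ⟨n, hn, hne⟩ := T.conj_eq_normalizer_conj_of_mem s g'⁻¹ hs (by rw [inv_inv, e2]; exact ht)
    exact ⟨n⁻¹, inv_mem hn, by rw [inv_inv, ← hne, inv_inv, e2]⟩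
  have hTR := H.le_centralizer_of_transitive T.isPGroup' h4 hRr hTN
    (N₀ := normalizer ((T : Subgroup G) : Set G))
    (le_inf le_rfl (le_top.trans (normalizer_eq_top_iff.2 (inferInstance : R.Normal)).ge)) htr
  haveI : (centralizer (R : Set G)).Normal := Subgroup.normal_centralizer (H := R)
  have hsolC := centralizer_solvable h hRne
  have hCR : centralizer (R : Set G) ≤ R := by
    haveI := hsolC
    rcases ((inferInstance : (centralizer (R : Set G)).Normal).map (QuotientGroup.mk' R)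
      (QuotientGroup.mk'_surjective R)).eq_bot_or_eq_top with e | e
    · exact fun c hc => (QuotientGroup.eq_one_iff c).1 (mem_bot.1 (e ▸ mem_map_of_mem _ hc))
    · refine absurd (Group.isSolvable_of_surjective
        (f := (QuotientGroup.mk' R).comp (centralizer (R : Set G)).subtype) ?_) hnsB
      intro b
      obtain ⟨c, hc, rfl⟩ := (e ▸ mem_top b : b ∈ (centralizer (R : Set G)).map (QuotientGroup.mk' R))
      exact ⟨⟨c, hc⟩, rfl⟩
  have hd := card_dvd_of_le (hTR.trans hCR)
  obtain ⟨k, hk⟩ := IsPGroup.iff_card.1 T.isPGroup'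
  rw [hk] at hd h4
  rcases Nat.eq_zero_or_pos k with rfl | hk0
  · norm_num at h4
  · exact Nat.not_even_iff_odd.2 hTodd (even_iff_two_dvd.2 ((dvd_pow_self 2 hk0.ne').trans hd))

end Cfsg.Agent.H76.ThreeOrders
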