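import Cfsg.Agent.H76.ThreeOrders.Families
import Cfsg.Agent.H76.OneMixed.Main

/-!
The simple groups in which no prime divides three element orders.
-/

set_option autoImplicit false
set_option linter.style.haveILetI false
set_option linter.unusedSectionVars false

namespace Cfsg.Agent.H76.ThreeOrders

open Subgroup

universe u

/-- `PSL₂(2ⁿ)`. -/
def IsEvenPSL (S : Type*) [Group S] : Prop :=
  ∃ (F : Type) (_ : Field F) (_ : Fintype F) (n : ℕ), 2 ≤ n ∧ Fintype.card F = 2 ^ n ∧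
    Nonempty (S ≃* Matrix.ProjectiveSpecialLinearGroup (Fin 2) F)

/-- `PSL₂(q)`, `q ≡ ±3 (mod 8)`, `q > 5`. -/
def IsOddPSL (S : Type*) [Group S] : Prop :=
  ∃ (F : Type) (_ : Field F) (_ : Fintype F), 5 < Fintype.card F ∧
    (Fintype.card F % 8 = 3 ∨ Fintype.card F % 8 = 5) ∧
    Nonempty (S ≃* Matrix.ProjectiveSpecialLinearGroup (Fin 2) F)

/-- `PSL₂(7)` or `PSL₂(9)`. -/
def IsSevenNine (S : Type*) [Group S] : Prop :=
  ∃ (F : Type) (_ : Field F) (_ : Fintype F), (Fintype.card F = 7 ∨ Fintype.card F = 9) ∧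
    Nonempty (S ≃* Matrix.ProjectiveSpecialLinearGroup (Fin 2) F)

/-- `PSL₃(4)`. -/
def IsPSLThreeFour (S : Type*) [Group S] : Prop :=
  ∃ (F : Type) (_ : Field F) (_ : Fintype F), Fintype.card F = 4 ∧
    Nonempty (S ≃* Matrix.ProjectiveSpecialLinearGroup (Fin 3) F)

/-- The simple groups in question. -/
def Simples (S : Type*) [Group S] : Prop :=
  IsEvenPSL S ∨ IsOddPSL S ∨ IsSevenNine S ∨ IsPSLThreeFour S ∨ Cfsg.Lie.IsoSuzuki S

theorem isEvenPSL_five {S : Type*} [Group S] {F : Type} [Field F] [Fintype F]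
    (hF : Fintype.card F = 5) (e : S ≃* Matrix.ProjectiveSpecialLinearGroup (Fin 2) F) :
    IsEvenPSL S := by
  classical
  haveI : Fintype (GaloisField 2 2) := Fintype.ofFinite _
  have h4 : Fintype.card (GaloisField 2 2) = 4 := by
    rw [← Nat.card_eq_fintype_card, GaloisField.card 2 2 (by norm_num)]; norm_num
  obtain ⟨e5⟩ := S0253.result hF
  obtain ⟨e4⟩ := H70.Eppo.classification.psl_two_four.{0} h4
  exact ⟨GaloisField 2 2, inferInstance, inferInstance, 2, le_rfl, h4,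
    ⟨(e.trans e5).trans e4.symm⟩⟩

section Classify

variable {S : Type u} [Group S] [Finite S] [IsSimpleGroup S]

theorem not_solvable (hna : ¬ IsMulCommutative S) : ¬ Group.IsSolvable S := fun h =>
  hna ⟨⟨fun a b => IsSimpleGroup.comm_iff_isSolvable.mpr h a b⟩⟩

theorem simples_of_cit (hna : ¬ IsMulCommutative S) (h : Two S)
    (hC : ∀ r : ℕ, r.Prime → r ≠ 2 → ¬ HasOrd S (2 * r)) : Simples S := by
  classical
  have hCIT : H65.CIT.CIT S := by
    intro t ht
    haveI : Fact (Nat.Prime 2) := ⟨Nat.prime_two⟩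
    refine IsPGroup.of_card (n := (Nat.card (centralizer ({t} : Set S))).primeFactorsList.length)
      (Nat.eq_prime_pow_of_unique_prime_dvd Nat.card_pos.ne' fun {d} hd hdv => ?_)
    by_contra h2
    obtain ⟨⟨x, hx⟩, hxo⟩ := hasOrd_prime (G := centralizer ({t} : Set S)) hd hdv
    rw [orderOf_mk] at hxo
    exact hC d hd h2 (hasOrd_prime_mul Nat.prime_two hd (Ne.symm h2) ht hxo.symm.dvd
      (Commute.symm (mem_centralizer_singleton_iff.1 hx : Commute x t)))
  have hne : ∃ a b : S, a * b ≠ b * a := by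
    by_contra! hcon
    exact hna ⟨⟨hcon⟩⟩
  have hev : Even (Nat.card S) := even_iff_two_dvd.2 (two_dvd_card (not_solvable hna))
  rcases H70.Eppo.isSuzuki_iso_cases hne hCIT hev with ⟨F, _, _, hF, ⟨e⟩⟩ | h3 | hsz
  · obtain ⟨hF2, hF3⟩ := OneMixed.not_small hna e
    have hF1 := Fintype.one_lt_card (α := F)
    rcases hF with h9 | ⟨n, hn⟩ | ⟨hFp, k, hk⟩
    · exact Or.inr (Or.inr (Or.inl ⟨F, _, _, Or.inr h9, ⟨e⟩⟩))
    · refine Or.inl ⟨F, _, _, n, ?_, hn, ⟨e⟩⟩
      by_contra hlt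
      interval_cases n <;> simp_all
    · rcases lt_or_ge k 4 with hk4 | hk4
      · by_cases h5 : Fintype.card F = 5
        · exact Or.inl (isEvenPSL_five h5 e)
        · suffices h7 : Fintype.card F = 7 from Or.inr (Or.inr (Or.inl ⟨F, _, _, Or.inl h7, ⟨e⟩⟩))
          have h9 : Fintype.card F ≠ 9 := fun h9 => by rw [h9] at hFp; norm_num at hFp
          interval_cases k <;> norm_num at hk <;> omega
      · exfalso
        have h16 : 16 ≤ 2 ^ k := le_trans (by norm_num) (Nat.pow_le_pow_right two_pos hk4)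
        have hodd : Fintype.card F % 2 = 1 := by
          rcases hFp.eq_two_or_odd with h' | h' <;> omega
        have h2k : 2 ^ k = 2 * 2 ^ (k - 1) := by rw [← pow_succ']; congr 1; omega
        obtain ⟨x, hx⟩ : ∃ x : Matrix.ProjectiveSpecialLinearGroup (Fin 2) F,
            orderOf x = 2 ^ (k - 1) := by
          rcases hk with h' | h'
          · obtain ⟨x, hx⟩ := H70.SpecCN.exists_order_half_psl (F := F) hodd false
            refine ⟨x, hx.trans ?_⟩
            simp only [Bool.false_eq_true, if_false]; omega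
          · obtain ⟨x, hx⟩ := H70.SpecCN.exists_order_half_psl (F := F) hodd true
            refine ⟨x, hx.trans ?_⟩
            simp only [if_true]; omega
        have h1 := h.pow_four_eq_one (y := e.symm x)
          ⟨k - 1, by rw [← hx, ← MulEquiv.orderOf_eq e.symm x]; exact pow_orderOf_eq_one _⟩
        have h2 := orderOf_dvd_of_pow_eq_one h1
        rw [MulEquiv.orderOf_eq, hx] at h2
        have := Nat.le_of_dvd (by norm_num) h2
        omega
  · exact Or.inr (Or.inr (Or.inr (Or.inl h3)))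
  · exact Or.inr (Or.inr (Or.inr (Or.inr hsz)))

theorem simples_of_mixed (hna : ¬ IsMulCommutative S) (h : Two S) {r : ℕ} (hr : r.Prime)
    (hr2 : r ≠ 2) (hmix : HasOrd S (2 * r)) : Simples S := by
  classical
  have hne2 : 2 * r ≠ 2 := by have := hr.two_le; omega
  have hner : 2 * r ≠ r := by have := hr.two_le; omega
  let H : OneMixed.Hyp S :=
    { r := r
      hr := hr
      hr2 := hr2
      hna := hna
      heven := fun g hg => h.eq_or_eq Nat.prime_two (hmix.dvd (dvd_mul_right 2 r)) hmix ⟨g, rfl⟩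
        dvd_rfl (dvd_mul_right 2 r) hg hne2.symm
      hrord := fun g hg => h.eq_or_eq hr (hmix.dvd (dvd_mul_left r 2)) hmix ⟨g, rfl⟩
        dvd_rfl (dvd_mul_left r 2) hg hner.symm }
  obtain ⟨F, _, _, hodd, ⟨e⟩⟩ := H.iso_psl2_odd hmix
  have hq2 : Fintype.card F % 2 = 1 := Nat.odd_iff.1 hodd
  have hF1 := Fintype.one_lt_card (α := F)
  have hF3 := (OneMixed.not_small hna e).2
  by_cases h5 : Fintype.card F = 5
  · exact Or.inl (isEvenPSL_five h5 e)
  refine Or.inr (Or.inl ⟨F, _, _, by omega, ?_, ⟨e⟩⟩)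
  obtain ⟨x, hx⟩ := H70.SpecCN.exists_order_half_psl (F := F) hq2 false
  obtain ⟨y, hy⟩ := H70.SpecCN.exists_order_half_psl (F := F) hq2 true
  simp only [Bool.false_eq_true, if_false] at hx
  simp only [if_true] at hy
  have hno : ∀ z : S, 4 ∣ orderOf z → False := fun z hz => by
    rcases H.heven z ((by norm_num : 2 ∣ 4).trans hz) with e' | e'
    · rw [e'] at hz; norm_num at hz
    · rw [e'] at hz
      have : r % 2 = 1 := hr.eq_two_or_odd.resolve_left hr2
      change 4 ∣ 2 * r at hz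
      omega
  have h1 : ¬ 4 ∣ (Fintype.card F - 1) / 2 := fun hd =>
    hno (e.symm x) (by rwa [MulEquiv.orderOf_eq, hx])
  have h2 : ¬ 4 ∣ (Fintype.card F + 1) / 2 := fun hd =>
    hno (e.symm y) (by rwa [MulEquiv.orderOf_eq, hy])
  omega

theorem simples (hna : ¬ IsMulCommutative S) (h : Two S) : Simples S := by
  by_cases hmix : ∃ r : ℕ, r.Prime ∧ r ≠ 2 ∧ HasOrd S (2 * r)
  · obtain ⟨r, hr, hr2, hm⟩ := hmix
    exact simples_of_mixed hna h hr hr2 hm
  · exact simples_of_cit hna h fun r hr hr2 hm => hmix ⟨r, hr, hr2, hm⟩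

end Classify

/-- Data for `PSL₂(2ⁿ)`. -/
def KindEven (S : Type*) [Group S] : Prop :=
  ∃ n : ℕ, 2 ≤ n ∧ HasOrd S (2 ^ n - 1) ∧ HasOrd S (2 ^ n + 1) ∧
    ∀ s : ℕ, s.Prime → s ≠ 2 → s ∣ (2 ^ n - 1) * (2 ^ n + 1) → Cls S s

/-- Data for `PSL₂(q)`, `q ≡ ±3 (mod 8)`. -/
def KindOdd (S : Type*) [Group S] : Prop :=
  ∃ q r h : ℕ, r.Prime ∧ r ≠ 2 ∧ HasOrd S (2 * r) ∧ HasOrd S h ∧
    ((q + 1 = 4 * r ∧ 2 * h + 1 = q) ∨ (q = 4 * r + 1 ∧ 2 * h = q + 1 ∧ q % 3 ≠ 0)) ∧
    (∀ s : ℕ, s.Prime → s ≠ 2 → ¬ s ∣ q → s ∣ q ^ 2 - 1 → Cls S s) ∧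
    (q = 13 → ClsAut S 13 3)

/-- Data with elements of order four. -/
def KindFour (S : Type*) [Group S] : Prop :=
  HasOrd S 4 ∧ (Cls S 3 ∨ ClsAut S 5 4 ∨ Nat.card S = 360)

/-- The data used for the outer automorphisms. -/
def Kind (S : Type*) [Group S] : Prop :=
  InvConj S ∧ (KindEven S ∨ KindOdd S ∨ KindFour S)

theorem hasOrd_four_psl_three {F : Type*} [Field F] [Fintype F] (hF : Fintype.card F = 4) :
    HasOrd (Matrix.ProjectiveSpecialLinearGroup (Fin 3) F) 4 := by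
  classical
  haveI : Fact (Nat.Prime 2) := ⟨Nat.prime_two⟩
  obtain ⟨w, -, h2⟩ := H58.PSL34.exists_omega hF
  let S3 := Matrix.SpecialLinearGroup (Fin 3) F
  let u : S3 := ⟨!![1, 1, 0; 0, 1, 1; 0, 0, 1], by simp [Matrix.det_fin_three]⟩
  have dmul : ∀ M N : S3, ((M * N : S3) : Matrix (Fin 3) (Fin 3) F) = M.1 * N.1 := fun _ _ => rfl
  have hu4 : u ^ (2 ^ (1 + 1)) = 1 := Subtype.ext (by
    rw [show u ^ (2 ^ (1 + 1)) = u * u * (u * u) by
      rw [← pow_two, ← pow_two, ← pow_mul]; rfl, dmul, dmul]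
    ext i j
    fin_cases i <;> fin_cases j <;> simp [u] <;> grind)
  let q := QuotientGroup.mk' (Subgroup.center S3)
  refine ⟨q u, orderOf_eq_prime_pow (p := 2) (n := 1) (fun h1 => ?_)
    (by rw [← map_pow, hu4, map_one])⟩
  rw [pow_one, ← map_pow, pow_two] at h1
  obtain ⟨c, -, hc⟩ := Matrix.SpecialLinearGroup.mem_center_iff.1
    ((QuotientGroup.eq_one_iff (u * u)).1 h1)
  have e02 := congrFun (congrFun hc 0) 2
  rw [dmul] at e02
  simp [u, Matrix.scalar_apply, Matrix.mul_apply, Fin.sum_univ_three] at e02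

variable {S : Type*} [Group S] [Finite S]

theorem kind_of_simples (h : Two S) (hS : Simples S) : Kind S := by
  classical
  rcases hS with ⟨F, _, _, n, hn2, hn, ⟨e⟩⟩ | ⟨F, _, _, h5, hmod, ⟨e⟩⟩ | ⟨F, _, _, h79, ⟨e⟩⟩ |
    ⟨F, _, _, h4, ⟨e⟩⟩ | ⟨F, _, _, m, hm, hF, ⟨e⟩⟩
  · have hq4 : 4 ≤ Fintype.card F := by
      rw [hn]; exact le_trans (by norm_num) (Nat.pow_le_pow_right two_pos hn2)
    have hev : 2 ∣ 2 ^ n := dvd_pow_self 2 (by omega)
    refine ⟨(invConj_even hn).of_mulEquiv e.symm, Or.inl ⟨n, hn2, ?_, ?_, fun s hs hs2 hsd => ?_⟩⟩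
    · obtain ⟨p', hchar⟩ := CharP.exists F
      haveI : Fact p'.Prime := ⟨CharP.char_is_prime F p'⟩
      obtain ⟨-, ⟨y, hy⟩, -⟩ := H55.exists_torus_orders (F := F) p'
      have hg : Nat.gcd 2 (Fintype.card F - 1) = 1 := by
        rw [← Nat.coprime_iff_gcd_eq_one, Nat.Prime.coprime_iff_not_dvd Nat.prime_two]
        omega
      rw [hg, Nat.div_one, hn] at hy
      exact (HasOrd.of_dvd hy).of_mulEquiv e.symm
    · obtain ⟨z, hz⟩ := H70.SpecCN.exists_order_succ_psl hn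
      exact HasOrd.of_mulEquiv e.symm ⟨z, by rw [hz, hn]⟩
    · refine (cls_torus hq4 hs hs2 (fun hd => hs2 ?_) ?_).of_mulEquiv e.symm
      · exact (Nat.prime_dvd_prime_iff_eq hs Nat.prime_two).1 (hs.dvd_of_dvd_pow (hn ▸ hd))
      · rw [hn, show (2 ^ n) ^ 2 - 1 = (2 ^ n + 1) * (2 ^ n - 1) by
          simpa using Nat.sq_sub_sq (2 ^ n) 1, mul_comm]
        exact hsd
  · have hodd : Odd (Fintype.card F) := Nat.odd_iff.2 (by omega)
    obtain ⟨x, hx⟩ := H70.SpecCN.exists_order_half_psl (F := F) (by omega) false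
    obtain ⟨y, hy⟩ := H70.SpecCN.exists_order_half_psl (F := F) (by omega) true
    simp only [Bool.false_eq_true, if_false] at hx
    simp only [if_true] at hy
    have hx' : HasOrd S ((Fintype.card F - 1) / 2) := HasOrd.of_mulEquiv e.symm ⟨x, hx⟩
    have hy' : HasOrd S ((Fintype.card F + 1) / 2) := HasOrd.of_mulEquiv e.symm ⟨y, hy⟩
    have key : ∀ a : ℕ, HasOrd S (2 * a) → a % 2 = 1 → 1 < a → a.Prime := by
      intro a ha hodd' h1
      obtain ⟨r, hr, hrd⟩ := Nat.exists_prime_and_dvd h1.ne'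
      obtain ⟨c, rfl⟩ := hrd
      have := hr.two_le
      have h2r := h.comp_eq Nat.prime_two ha (ha.dvd ⟨c, by ring⟩ : HasOrd S (2 * r))
        (dvd_mul_right _ _) (dvd_mul_right _ _) (by omega) (by omega)
      rwa [Nat.eq_of_mul_eq_mul_left two_pos h2r]
    have hcls : ∀ s : ℕ, s.Prime → s ≠ 2 → ¬ s ∣ Fintype.card F → s ∣ Fintype.card F ^ 2 - 1 →
        Cls S s := fun s hs hs2 hsq hsd => (cls_torus (by omega) hs hs2 hsq hsd).of_mulEquiv e.symm
    refine ⟨(invConj_odd hodd).of_mulEquiv e.symm, Or.inr (Or.inl ?_)⟩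
    rcases hmod with h3 | h5'
    · obtain ⟨r, hr⟩ : ∃ r, Fintype.card F + 1 = 4 * r := ⟨(Fintype.card F + 1) / 4, by omega⟩
      have hr' : r.Prime := key r (by convert hy' using 2; omega) (by omega) (by omega)
      exact ⟨_, r, _, hr', by omega, by convert hy' using 2; omega, hx', Or.inl ⟨hr, by omega⟩, hcls,
        fun h13 => by omega⟩
    · obtain ⟨r, hr⟩ : ∃ r, Fintype.card F = 4 * r + 1 := ⟨(Fintype.card F - 1) / 4, by omega⟩
      have hr' : r.Prime := key r (by convert hx' using 2; omega) (by omega) (by omega)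
      refine ⟨_, r, _, hr', by omega, by convert hx' using 2; omega, hy',
        Or.inr ⟨hr, by omega, fun h3q => ?_⟩, hcls,
        fun h13 => (clsAut_thirteen h13).of_mulEquiv e.symm⟩
      obtain ⟨p, hchar⟩ := CharP.exists F
      obtain ⟨j, hp, hj⟩ := FiniteField.card F p
      obtain rfl : 3 = p := (Nat.prime_dvd_prime_iff_eq Nat.prime_three hp).1
        (Nat.prime_three.dvd_of_dvd_pow (hj ▸ Nat.dvd_of_mod_eq_zero h3q))
      rcases Nat.even_or_odd' (j : ℕ) with ⟨i, hi | hi⟩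
      · have : 3 ^ (2 * i) % 8 = 1 := by rw [pow_mul, Nat.pow_mod]; norm_num
        rw [hj, hi] at h5'; omega
      · have : 3 ^ (2 * i + 1) % 8 = 3 := by
          rw [pow_succ, pow_mul, Nat.mul_mod, Nat.pow_mod]; norm_num
        rw [hj, hi] at h5'; omega
  · have hodd : Odd (Fintype.card F) := Nat.odd_iff.2 (by omega)
    refine ⟨(invConj_odd hodd).of_mulEquiv e.symm, Or.inr (Or.inr ?_)⟩
    rcases h79 with h7 | h9
    · obtain ⟨x, hx⟩ := H70.SpecCN.exists_order_half_psl (F := F) (by omega) true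
      simp only [if_true] at hx
      refine ⟨HasOrd.of_mulEquiv e.symm ⟨x, by rw [hx, h7]⟩, Or.inl ?_⟩
      exact (cls_torus (by omega) Nat.prime_three (by norm_num) (by rw [h7]; norm_num)
        (by rw [h7]; norm_num)).of_mulEquiv e.symm
    · obtain ⟨x, hx⟩ := H70.SpecCN.exists_order_half_psl (F := F) (by omega) false
      simp only [Bool.false_eq_true, if_false] at hx
      refine ⟨HasOrd.of_mulEquiv e.symm ⟨x, by rw [hx, h9]⟩, Or.inr (Or.inr ?_)⟩
      rw [Nat.card_congr e.toEquiv]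
      have h' := Linear.card_PSL_two_mul (F := F)
      rw [h9, show Nat.gcd 2 (9 - 1) = 2 from rfl] at h'
      omega
  · refine ⟨(invConj_psl_three h4).of_mulEquiv e.symm, Or.inr (Or.inr ⟨?_, Or.inl
      ((cls_psl_three h4).of_mulEquiv e.symm)⟩)⟩
    exact (hasOrd_four_psl_three h4).of_mulEquiv e.symm
  · haveI : Suzuki.SzField F m := ⟨hF, hm⟩
    have e' : S ≃* Cfsg.Sz F m := e.trans (Suzuki.lieEquiv m).symm
    exact ⟨(invConj_suzuki m).of_mulEquiv e'.symm, Or.inr (Or.inr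
      ⟨HasOrd.of_mulEquiv e'.symm (OneMixed.suzuki_order_four m),
        Or.inr (Or.inl ((clsAut_suzuki m).of_mulEquiv e'.symm))⟩)⟩

end Cfsg.Agent.H76.ThreeOrders
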